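import Groth.Prelude.Def_Bivar2
import Groth.Agent.CycLib.PushEquiv
import Groth.Agent.CycLib.SetupLft
import Groth.Agent.FibSetDimLib.Basic

/-!
# Test schemes, classes and representatives for bivariant classes
-/

set_option autoImplicit false
set_option backward.isDefEq.respectTransparency false
set_option linter.style.haveILetI false

universe u

open CategoryTheory CategoryTheory.Limits AlgebraicGeometry

noncomputable section

namespace Groth.Agent.BivarLib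

variable {X Y : Scheme.{u}}

/-- The dimension function induced along a map locally of finite type. -/
theorem exists_delta (g : X ⟶ Y) [LocallyOfFiniteType g] (δY : Y → ℤ) :
    ∃ δX : X → ℤ, Cyc.DeltaCompat g δX δY := by
  choose t ht using fun x => FibSetDimLib.exists_nat_resTrdeg g x
  exact ⟨fun x => δY (g x) + t x, fun x => ⟨t x, ht x, rfl⟩⟩

/-- A compatible dimension function is unique. -/
theorem delta_unique {g : X ⟶ Y} {δ δ' : X → ℤ} {δY : Y → ℤ} (h : Cyc.DeltaCompat g δ δY)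
    (h' : Cyc.DeltaCompat g δ' δY) : δ = δ' := funext fun x => by
  obtain ⟨n, hn, e⟩ := h x
  obtain ⟨m, hm, e'⟩ := h' x
  obtain rfl : n = m := by exact_mod_cast hn.symm.trans hm
  rw [e, e']

/-- Cancellation of compatible dimension functions. -/
theorem deltaCompat_of_comp {Z : Scheme.{u}} (f : X ⟶ Y) [LocallyOfFiniteType f] (g : Y ⟶ Z) {δX : X → ℤ}
    {δY : Y → ℤ} {δZ : Z → ℤ} (hfg : Cyc.DeltaCompat (f ≫ g) δX δZ) (hg : Cyc.DeltaCompat g δY δZ) :
    Cyc.DeltaCompat f δX δY := by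
  obtain ⟨δ, hδ⟩ := exists_delta f δY
  obtain rfl := delta_unique hfg (Bivar.deltaCompat_comp f g δ δY δZ hδ hg)
  exact hδ

section Classes

variable {δ : X → ℤ} {k : ℤ}

theorem cl_sub {α β : AlgebraicCycle X ℤ} (hα : α ∈ Cyc.Zk X δ k) (hβ : β ∈ Cyc.Zk X δ k) :
    ChowOps.cl (α - β) ((ChowOps.zk X δ k).sub_mem hα hβ) = ChowOps.cl α hα - ChowOps.cl β hβ :=
  map_sub (ChowOps.clHom X δ k) (⟨α, hα⟩ : ↥(ChowOps.zk X δ k)) ⟨β, hβ⟩

theorem cl_eq_zero {α : AlgebraicCycle X ℤ} (hα : α ∈ Cyc.Zk X δ k) (h : Cyc.RatEquivZero δ k α) :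
    ChowOps.cl α hα = 0 :=
  (QuotientAddGroup.eq_zero_iff _).2 (AddSubgroup.subset_closure h)

theorem cl_eq_of_ratEquiv {α β : AlgebraicCycle X ℤ} (hα : α ∈ Cyc.Zk X δ k) (hβ : β ∈ Cyc.Zk X δ k)
    (h : Cyc.RatEquiv δ k α β) : ChowOps.cl α hα = ChowOps.cl β hβ :=
  sub_eq_zero.1 ((cl_sub hα hβ).symm.trans (cl_eq_zero _ h))

/-- An additive map on cycles killing rational equivalence descends to classes. -/
def descend {A : Type u} [AddCommGroup A] (φ : ↥(ChowOps.zk X δ k) →+ A)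
    (h : ∀ a : ↥(ChowOps.zk X δ k), Cyc.RatEquivZero δ k (a : AlgebraicCycle X ℤ) → φ a = 0) :
    ChowOps.CH X δ k →+ A :=
  QuotientAddGroup.lift (ChowOps.ratTriv X δ k) φ ((AddSubgroup.closure_le _).2 h)

theorem descend_cl {A : Type u} [AddCommGroup A] (φ : ↥(ChowOps.zk X δ k) →+ A)
    (h : ∀ a : ↥(ChowOps.zk X δ k), Cyc.RatEquivZero δ k (a : AlgebraicCycle X ℤ) → φ a = 0)
    (α : AlgebraicCycle X ℤ) (hα : α ∈ Cyc.Zk X δ k) :
    descend φ h (ChowOps.cl α hα) = φ ⟨α, hα⟩ := rfl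

end Classes

section Push

variable (p : X ⟶ Y) [IsProper p] {δX : X → ℤ} {δY : Y → ℤ} (hX : Cyc.IsSetup X δX) (hY : Cyc.IsSetup Y δY)
  (hδ : Cyc.DeltaCompat p δX δY) (k : ℤ)

/-- Proper push forward on classes. -/
def pushCH : ChowOps.CH X δX k →+ ChowOps.CH Y δY k :=
  descend
    { toFun := fun a => ChowOps.cl (AlgebraicCycle.map p δX δY a.1) (Bivar.cycMap_mem_Zk p δX δY k a.2)
      map_zero' := Bivar.cl_congr (Bivar.cycMap_zero p δX δY) _ (ChowOps.zk Y δY k).zero_mem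
      map_add' := fun a b => (Bivar.cl_congr (Bivar.cycMap_add p δX δY a.1 b.1) _ _).trans (Bivar.cl_add _ _ _ _) }
    (fun _ h => cl_eq_zero _ (CycLib.ratEquivZero_map p hX hY hδ h))

theorem pushCH_cl (α : AlgebraicCycle X ℤ) (hα : α ∈ Cyc.Zk X δX k) :
    pushCH p hX hY hδ k (ChowOps.cl α hα) =
      ChowOps.cl (AlgebraicCycle.map p δX δY α) (Bivar.cycMap_mem_Zk p δX δY k hα) := rfl

end Push

section Cl

variable {f : X ⟶ Y} {δX : X → ℤ} {δY : Y → ℤ} {p : ℤ}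

theorem isSetup_Y' (hY : Cyc.IsSetup Y δY) (s : Bivar.Sq f δX δY) : Cyc.IsSetup s.Y' s.δY' := by
  haveI := s.lft
  exact CycLib.isSetup_of_lft s.g hY s.compatY

theorem lft_g' (s : Bivar.Sq f δX δY) : LocallyOfFiniteType s.g' :=
  MorphismProperty.of_isPullback s.isPullback s.lft

theorem lft_f' [LocallyOfFiniteType f] (s : Bivar.Sq f δX δY) : LocallyOfFiniteType s.f' :=
  MorphismProperty.of_isPullback s.isPullback.flip inferInstance

theorem isSetup_X' (hX : Cyc.IsSetup X δX) (s : Bivar.Sq f δX δY) : Cyc.IsSetup s.X' s.δX' := by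
  haveI := lft_g' s
  exact CycLib.isSetup_of_lft s.g' hX s.compatX

/-- The operations commute with proper push forward on classes. -/
theorem op_pushCH (hX : Cyc.IsSetup X δX) (hY : Cyc.IsSetup Y δY) (c : Bivar.Cl p f δX δY) (s t : Bivar.Sq f δX δY)
    (h : t.Y' ⟶ s.Y') [IsProper h] (h' : t.X' ⟶ s.X') [IsProper h'] (w₁ : h ≫ s.g = t.g)
    (w₂ : h' ≫ s.f' = t.f' ≫ h) (w₃ : h' ≫ s.g' = t.g') (hd : Cyc.DeltaCompat h t.δY' s.δY')
    (hd' : Cyc.DeltaCompat h' t.δX' s.δX') (k : ℤ) (a : ChowOps.CH t.Y' t.δY' k) :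
    c.op s k (pushCH h (isSetup_Y' hY t) (isSetup_Y' hY s) hd k a) =
      pushCH h' (isSetup_X' hX t) (isSetup_X' hX s) hd' (k - p) (c.op t k a) := by
  obtain ⟨α, hα, rfl⟩ := Bivar.exists_rep a
  obtain ⟨β, hβ, e₁, e₂⟩ := c.push s t h h' w₁ w₂ w₃ k α hα
  rw [pushCH_cl, e₂, e₁, pushCH_cl]

end Cl

end Groth.Agent.BivarLib
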