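import Groth.Agent.BivarLib.Basic
import Groth.Agent.CycLib.Chern.Gysin
import Groth.Agent.CycLib.Proj
import Groth.Agent.AmpleLib.Pullback

/-!
# The first Chern class on Chow groups and its compatibilities
-/

set_option autoImplicit false
set_option backward.isDefEq.respectTransparency false
set_option linter.style.haveILetI false

universe u

open CategoryTheory CategoryTheory.Limits AlgebraicGeometry

noncomputable section

namespace Groth.Agent.BivarLib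

open CycLib

variable {Y : Scheme.{u}} {δ : Y → ℤ} (hY : Cyc.IsSetup Y δ) {L : Y.Modules} (hL : PicF.IsInvertible L)

/-- The cap of a `k`-cycle with a first Chern class is a `(k - 1)`-cycle. -/
theorem mem_Zk_c1 {k : ℤ} {a : Y → ℤ} (ha : ∀ ξ, δ ξ ≠ k → a ξ = 0) {s : (ξ : Y) → Cyc.secFibre L ξ}
    {γ : AlgebraicCycle Y ℤ} (hγ : ⇑γ = Cyc.c1CapFun δ L a s) : γ ∈ Cyc.Zk Y δ (k - 1) := fun x hx => by
  rw [hγ]
  exact c1CapFun_eq_zero_of_ne (k := k - 1) (fun ξ hξ => ha ξ (by omega)) s hx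

/-- Nowhere zero rational sections. -/
def secs : (ξ : Y) → Cyc.secFibre L ξ := (exists_secs hL).choose

theorem secs_ne_zero (ξ : Y) : secs hL ξ ≠ 0 := (exists_secs hL).choose_spec ξ

/-- The cap with a first Chern class on classes. -/
def c1CH (k : ℤ) : ChowOps.CH Y δ k →+ ChowOps.CH Y δ (k - 1) :=
  haveI := hY.1
  descend
    { toFun := fun a => ChowOps.cl (c1Cycle hY.2.2 hL a.1 (secs hL)) (mem_Zk_c1 a.2 rfl)
      map_zero' := Bivar.cl_congr (Function.locallyFinsuppWithin.ext fun x =>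
          congrFun (Bivar.c1CapFun_zero δ L (secs hL)) x) _ (ChowOps.zk Y δ (k - 1)).zero_mem
      map_add' := fun a b =>
        (Bivar.cl_congr (PB.c1Cycle_add hY.2.2 hL a.1 b.1 (secs hL)) _ _).trans (Bivar.cl_add _ _ _ _) }
    (fun a h => cl_eq_zero _ (c1Cap_ratEquivZero hY hL (k := k - 1) (α := (a : AlgebraicCycle Y ℤ))
      (by simpa using h) (secs hL) (secs_ne_zero hL) _ rfl))

theorem c1CH_cl {k : ℤ} (α : AlgebraicCycle Y ℤ) (hα : α ∈ Cyc.Zk Y δ k) (s : (ξ : Y) → Cyc.secFibre L ξ)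
    (hs : ∀ ξ, s ξ ≠ 0) (γ : AlgebraicCycle Y ℤ) (hγ : ⇑γ = Cyc.c1CapFun δ L ⇑α s)
    (hγk : γ ∈ Cyc.Zk Y δ (k - 1)) : c1CH hY hL k (ChowOps.cl α hα) = ChowOps.cl γ hγk := by
  haveI := hY.1
  show ChowOps.cl (c1Cycle hY.2.2 hL α (secs hL)) _ = _
  exact cl_eq_of_ratEquiv _ _ (ratEquiv_c1Cap hY.2.2 hL (k := k - 1) (by simpa using hα) hs (secs_ne_zero hL) hγ rfl)

section Compat

variable {T S : Scheme.{u}} {δT : T → ℤ} {δS : S → ℤ} (hT : Cyc.IsSetup T δT) (hS : Cyc.IsSetup S δS)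
  {N : S.Modules} (hN : PicF.IsInvertible N) {M : T.Modules} (hM : PicF.IsInvertible M)

/-- The projection formula. -/
theorem c1_push (h : T ⟶ S) [IsProper h] (hd : Cyc.DeltaCompat h δT δS)
    (e : (Scheme.Modules.pullback h).obj N ≅ M) (k : ℤ) :
    Bivar.PushOK δT δT δS δS h h (c1CH hT hM k) (c1CH hS hN k) := by
  haveI := hT.1
  haveI := hS.1
  intro α hα
  have hN' := AmpleLib.isInvertible_pullback h hN
  let v : (η : T) → Cyc.secFibre M η := fun η => fibMap e.hom η (pullFib h N η (secs hN (h η)))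
  let β := c1Cycle hT.2.2 hM α v
  refine ⟨β, mem_Zk_c1 hα rfl, c1CH_cl hT hM α hα v
    (fun η => fibMap_ne_zero hN' e (pullFib_ne_zero h N hN (secs_ne_zero hN _))) β rfl _, ?_⟩
  refine c1CH_cl hS hN _ _ (secs hN) (secs_ne_zero hN) _ (funext fun y => ?_) _
  exact map_c1Cap_pullFib h hT hS hd hN α (secs hN) (secs_ne_zero hN) β
    (fun x => congrFun (c1CapFun_iso hT.2.2 hN' e ⇑α fun η => pullFib h N η (secs hN (h η))) x) y

/-- First Chern classes commute with flat pullback. -/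
theorem c1_pull (h : T ⟶ S) [Flat h] [LocallyOfFiniteType h] (r : ℕ) (hr : Cyc.HasRelDim h r)
    (hd : Cyc.DeltaCompat h δT δS) (e : (Scheme.Modules.pullback h).obj N ≅ M) (k : ℤ) :
    Bivar.PullOK δS δS δT δT h h (r : ℤ) (c1CH hS hN k) (c1CH hT hM (k + r)) := by
  haveI := hT.1
  haveI := hS.1
  intro α hα
  have hN' := AmpleLib.isInvertible_pullback h hN
  have hsh : IsShift h δT δS (r : ℤ) := IsShift.of_relDim hT hS r hr hd
  let β := c1Cycle hS.2.2 hN α (secs hN)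
  refine ⟨β, mem_Zk_c1 hα rfl, c1CH_cl hS hN α hα _ (secs_ne_zero hN) β rfl _, fun α₁ hc hα₁ => ?_⟩
  let β₁ := pullCycle hsh hT.2.2 β
  have hcoe : ⇑β₁ = Cyc.c1CapFun δT M ⇑α₁ fun η => fibMap e.hom η (pullFib h N η (secs hN (h η))) := by
    rw [c1CapFun_iso hT.2.2 hN' e, hc]
    exact pullFun_c1Cap hsh hT.2.2 hS.2.2 hN (secs hN) (secs_ne_zero hN) α
  exact ⟨β₁, mem_Zk_c1 hα₁ hcoe, rfl,
    c1CH_cl hT hM α₁ hα₁ _ (fun η => fibMap_ne_zero hN' e (pullFib_ne_zero h N hN (secs_ne_zero hN _))) β₁ hcoe _⟩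

/-- First Chern classes commute with Gysin maps. -/
theorem c1_gysin (i : T ⟶ S) [IsClosedImmersion i] (hd : Cyc.DeltaCompat i δT δS) {L' : S.Modules}
    (hL' : PicF.IsInvertible L') (σ : L'.presheaf.obj (Opposite.op ⊤)) (hσ : Cyc.IsZeroSchemeOf i L' σ)
    (e : (Scheme.Modules.pullback i).obj N ≅ M) (k : ℤ) :
    Bivar.GysinOK₁ δS δT i L' σ (c1CH hS hN k) (c1CH hT hM (k - 1)) := by
  haveI := hT.1
  haveI := hS.1
  obtain rfl := delta_unique hd (deltaCompat_preimmersion i δS)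
  intro α hα
  have hN' := AmpleLib.isInvertible_pullback i hN
  let β := c1Cycle hS.2.2 hN α (secs hN)
  refine ⟨β, mem_Zk_c1 hα rfl, c1CH_cl hS hN α hα _ (secs_ne_zero hN) β rfl _, fun w hw γ hγ hγk => ?_⟩
  let a := c1Cycle hS.2.2 hL' α (Cyc.gysinChoice L' σ w)
  have ha : ∀ x, a x ≠ 0 → x ∈ Set.range i := fun x hx => by
    obtain ⟨ξ, hξ⟩ := exists_ne_zero_finsum hx
    exact mem_range_of_gysin hS.2.2 hL' hσ (right_ne_zero_of_mul hξ)
  let v : (η : T) → Cyc.secFibre M η := fun η => fibMap e.hom η (pullFib i N η (secs hN (i η)))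
  let γ₂ := restrictCycle i (c1Cycle hS.2.2 hN a (secs hN))
  have hγ₂ : ⇑γ₂ = Cyc.c1CapFun (fun d => δS (i d)) M ⇑γ v := funext fun z => by
    show Cyc.c1CapFun δS N ⇑a (secs hN) (i z) = _
    rw [c1CapFun_closed i hS.2.2 hN ⇑a ha, congrFun (c1CapFun_iso hT.2.2 hN' e ⇑γ _) z,
      funext hγ]
    rfl
  let ζ := restrictCycle i (c1Cycle hS.2.2 hL' β (Cyc.gysinChoice L' σ w))
  have hζ : ζ ∈ Cyc.Zk T (fun d => δS (i d)) (k - 1 - 1) := fun x hx =>
    mem_Zk_c1 (mem_Zk_c1 hα (γ := β) rfl) (s := Cyc.gysinChoice L' σ w)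
      (γ := c1Cycle hS.2.2 hL' β (Cyc.gysinChoice L' σ w)) rfl (i x) hx
  refine ⟨ζ, hζ, fun d => rfl, ?_⟩
  rw [c1CH_cl hT hM γ hγk v (fun η => fibMap_ne_zero hN' e (pullFib_ne_zero i N hN (secs_ne_zero hN _))) γ₂ hγ₂
    (mem_Zk_c1 hγk hγ₂)]
  exact (cl_eq_of_ratEquiv hζ _ (gysin_c1Cap_comm hS hL' hN hσ hw (k := k - 1 - 1) (α := α)
    (by rw [show k - 1 - 1 + 2 = k by ring]; exact hα) (secs hN) (secs_ne_zero hN) ζ γ₂ (fun d => rfl) (fun d => rfl))).symm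

end Compat

end Groth.Agent.BivarLib
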