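import Groth.Agent.BivarLib.C1

/-!
# The first Chern class as an operational class
-/

set_option autoImplicit false
set_option backward.isDefEq.respectTransparency false
set_option linter.style.haveILetI false

universe u

open CategoryTheory CategoryTheory.Limits AlgebraicGeometry

noncomputable section

namespace Groth.Agent.BivarLib

variable {X : Scheme.{u}} {δX : X → ℤ} {L : X.Modules}

theorem isSetup_osq (hX : Cyc.IsSetup X δX) (s : Bivar.OSq X δX) : Cyc.IsSetup s.Y s.δ := by
  haveI := s.lft
  exact CycLib.isSetup_of_lft s.g hX s.compat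

/-- Transport of the pulled back module along a morphism of test schemes. -/
def pullOverIso {A B : Scheme.{u}} (h : A ⟶ B) (g : B ⟶ X) (g' : A ⟶ X) (w : h ≫ g = g') (L : X.Modules) :
    (Scheme.Modules.pullback h).obj ((Scheme.Modules.pullback g).obj L) ≅ (Scheme.Modules.pullback g').obj L :=
  (Scheme.Modules.pullbackComp h g).app L ≪≫ (Scheme.Modules.pullbackCongr w).app L

/-- The operational first Chern class. -/
def c1Op (hX : Cyc.IsSetup X δX) (hL : PicF.IsInvertible L) : Bivar.OpCl 1 X δX where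
  op s k := c1CH (isSetup_osq hX s) (AmpleLib.isInvertible_pullback s.g hL) k
  push s t h _ w k := c1_push _ _ _ _ h (deltaCompat_of_comp h s.g (w ▸ t.compat) s.compat)
    (pullOverIso h s.g t.g w L) k
  pull s t h _ r hr w k := by
    haveI := t.lft
    haveI : LocallyOfFiniteType (h ≫ s.g) := w ▸ t.lft
    haveI := locallyOfFiniteType_of_comp h s.g
    exact c1_pull _ _ _ _ h r hr (deltaCompat_of_comp h s.g (w ▸ t.compat) s.compat) (pullOverIso h s.g t.g w L) k
  gysin s t i _ w L' hL' σ hσ k := c1_gysin _ _ _ _ i (deltaCompat_of_comp i s.g (w ▸ t.compat) s.compat)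
    hL' σ hσ (pullOverIso i s.g t.g w L) k

theorem isC1Class_c1Op (hX : Cyc.IsSetup X δX) (hL : PicF.IsInvertible L) : Bivar.IsC1Class L (c1Op hX hL) :=
  ⟨hL, fun s _ α hα v hv γ hγ hγk =>
    c1CH_cl (isSetup_osq hX s) (AmpleLib.isInvertible_pullback s.g hL) α hα v hv γ hγ hγk⟩

/-- An operational first Chern class acts as the cap with the first Chern class. -/
theorem op_eq_c1CH (hX : Cyc.IsSetup X δX) {c : Bivar.OpCl 1 X δX} (hc : Bivar.IsC1Class L c) (s : Bivar.OSq X δX)
    (k : ℤ) : c.op s k = c1CH (isSetup_osq hX s) (AmpleLib.isInvertible_pullback s.g hc.1) k := by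
  haveI := (isSetup_osq hX s).1
  refine AddMonoidHom.ext fun x => ?_
  obtain ⟨α, hα, rfl⟩ := Bivar.exists_rep x
  let hLs := AmpleLib.isInvertible_pullback s.g hc.1
  let γ := CycLib.c1Cycle (isSetup_osq hX s).2.2 hLs α (secs hLs)
  rw [hc.2 s k α hα (secs hLs) (secs_ne_zero hLs) γ rfl (mem_Zk_c1 hα rfl),
    c1CH_cl _ _ α hα (secs hLs) (secs_ne_zero hLs) γ rfl]

end Groth.Agent.BivarLib
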