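import Groth.Agent.BivarLib.C1

/-!
# Gysin maps on Chow groups and the self-intersection formula
-/

set_option autoImplicit false
set_option backward.isDefEq.respectTransparency false
set_option linter.style.haveILetI false

universe u

open CategoryTheory CategoryTheory.Limits AlgebraicGeometry

noncomputable section

namespace Groth.Agent.BivarLib

open CycLib

variable {D S : Scheme.{u}} {δD : D → ℤ} {δS : S → ℤ} (hS : Cyc.IsSetup S δS) (i : D ⟶ S) [IsClosedImmersion i]
  (hd : Cyc.DeltaCompat i δD δS) {L : S.Modules} (hL : PicF.IsInvertible L) (σ : L.presheaf.obj (Opposite.op ⊤))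
  (hσ : Cyc.IsZeroSchemeOf i L σ) {w : (ξ : S) → Cyc.secFibre L ξ} (hw : ∀ ξ, w ξ ≠ 0)

/-- The Gysin cycle of a `k`-cycle is a `(k - 1)`-cycle. -/
theorem mem_Zk_gysin (hd : Cyc.DeltaCompat i δD δS) {k : ℤ} {a : S → ℤ} (ha : ∀ ξ, δS ξ ≠ k → a ξ = 0)
    {v : (ξ : S) → Cyc.secFibre L ξ} {γ : AlgebraicCycle D ℤ}
    (hγ : ∀ d, γ d = Cyc.c1CapFun δS L a v (i d)) : γ ∈ Cyc.Zk D δD (k - 1) := fun x hx => by
  obtain rfl := delta_unique hd (deltaCompat_preimmersion i δS)
  rw [hγ]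
  exact c1CapFun_eq_zero_of_ne (k := k - 1) (fun ξ hξ => ha ξ (by omega)) v hx

/-- The Gysin map on classes. -/
def gysinCH (k : ℤ) : ChowOps.CH S δS k →+ ChowOps.CH D δD (k - 1) :=
  haveI := hS.1
  descend
    { toFun := fun a => ChowOps.cl (restrictCycle i (c1Cycle hS.2.2 hL a.1 (Cyc.gysinChoice L σ w)))
        (mem_Zk_gysin i hd a.2 fun _ => rfl)
      map_zero' := Bivar.cl_congr (Function.locallyFinsuppWithin.ext fun x =>
          congrFun (Bivar.c1CapFun_zero δS L (Cyc.gysinChoice L σ w)) (i x)) _ (ChowOps.zk D δD (k - 1)).zero_mem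
      map_add' := fun a b => (Bivar.cl_congr ((gysinHom hS.2.2 hL i (Cyc.gysinChoice L σ w)).map_add a.1 b.1) _ _).trans
        (Bivar.cl_add _ _ _ _) }
    (fun a h => cl_eq_zero _ (by
      rw [delta_unique hd (deltaCompat_preimmersion i δS)]
      exact gysin_ratEquivZero hS hL hσ hw (k := k - 1) (α := (a : AlgebraicCycle S ℤ)) (by simpa using h) _ fun _ => rfl))

theorem gysinCH_cl {k : ℤ} (α : AlgebraicCycle S ℤ) (hα : α ∈ Cyc.Zk S δS k) (γ : AlgebraicCycle D ℤ)
    (hγ : ∀ d, γ d = Cyc.c1CapFun δS L ⇑α (Cyc.gysinChoice L σ w) (i d)) (hγk : γ ∈ Cyc.Zk D δD (k - 1)) :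
    gysinCH hS i hd hL σ hσ hw k (ChowOps.cl α hα) = ChowOps.cl γ hγk :=
  haveI := hS.1
  Bivar.cl_congr (β := γ) (Function.locallyFinsuppWithin.ext fun d => (hγ d).symm) _ hγk

include hd hσ in
/-- The self-intersection formula, on coefficients. -/
theorem gysin_map_self (hD : Cyc.IsSetup D δD) (hS' : Cyc.IsSetup S δS) {M : D.Modules}
    (e : (Scheme.Modules.pullback i).obj L ≅ M) (hL : PicF.IsInvertible L) (hM : PicF.IsInvertible M)
    (α : AlgebraicCycle D ℤ) (d : D) :
    (haveI := hD.1; c1Cycle hD.2.2 hM α fun η => fibMap e.hom η (pullFib i L η (w (i η)))) d =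
      Cyc.c1CapFun δS L ⇑(AlgebraicCycle.map i δD δS α) (Cyc.gysinChoice L σ w) (i d) := by
  obtain rfl := delta_unique hd (deltaCompat_preimmersion i δS)
  haveI := hD.1
  haveI := hS'.1
  let a := AlgebraicCycle.map i (fun z => δS (i z)) δS α
  have ha : ∀ x, a x ≠ 0 → x ∈ Set.range i := fun x hx => by
    by_contra h
    exact hx (map_closed_apply_of_notMem i α h)
  have hchoice : Cyc.c1CapFun δS L ⇑a (Cyc.gysinChoice L σ w) (i d) = Cyc.c1CapFun δS L ⇑a w (i d) := by
    refine finsum_congr fun ξ => ?_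
    by_cases hξ : a ξ = 0
    · simp only [hξ, zero_mul]
    · have h0 : mkF L ξ (L.presheaf.germ ⊤ ξ trivial σ) = 0 := hσ.1.le (ha ξ hξ)
      have : Cyc.gysinChoice L σ w ξ = w ξ := if_neg (not_not.2 h0)
      rw [this]
  rw [hchoice, c1CapFun_closed i hS'.2.2 hL ⇑a ha,
    show (fun η => a (i η)) = ⇑α from funext fun η => map_closed_apply i α η]
  exact congrFun (c1CapFun_iso hD.2.2 (AmpleLib.isInvertible_pullback i hL) e ⇑α fun η => pullFib i L η (w (i η))) d

end Groth.Agent.BivarLib
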