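import Groth.Agent.VBundLib.Inj
import Groth.Agent.LeffEtLib.Dual
import Groth.Agent.CycLib.Chern.Formulas
import Groth.Agent.CycLib.Chern.SubLine

/-!
# An invertible module as the normal module of the zero section of a line bundle
-/

set_option autoImplicit false
set_option backward.isDefEq.respectTransparency false
set_option linter.style.haveILetI false

universe u

open CategoryTheory CategoryTheory.Limits AlgebraicGeometry TopologicalSpace
open Groth.Agent.CycLib Groth.Agent.CycLib.Dual Groth.Agent.VBundLib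
open scoped ZeroObject

noncomputable section

namespace Groth.Agent.BivarLib

/-- Every invertible module is the restriction of a module to the zero scheme of one of its sections, on a scheme
locally of finite type with a retraction. -/
theorem exists_zero_section {Y : Scheme.{u}} [IsLocallyNoetherian Y] {N : Y.Modules} (hN : PicF.IsInvertible N) :
    ∃ (V : Scheme.{u}) (p : V ⟶ Y) (i : Y ⟶ V) (L : V.Modules) (σ : L.presheaf.obj (Opposite.op ⊤)),
      LocallyOfFiniteType p ∧ IsClosedImmersion i ∧ i ≫ p = 𝟙 Y ∧ PicF.IsInvertible L ∧ Cyc.IsZeroSchemeOf i L σ ∧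
        Nonempty ((Scheme.Modules.pullback i).obj L ≅ N) := by
  have hM : PicF.IsInvertible (dd N) := isInvertible_dd hN
  have hflf : ∀ {Z : Scheme.{u}} {L : Z.Modules}, PicF.IsInvertible L → FlatMod.IsFinLocFree L := fun h =>
    flf_of_rank (CurveLib.isFinLocFreeOfRank_one h)
  haveI : Coh.IsQCoh (dd N) := InvExt.isQCoh_of_isInvertible hM
  have hF : IsZero (0 : Y.Modules) := isZero_zero _
  haveI : Coh.IsQCoh (0 : Y.Modules) :=
    (Groth.Agent.PullbackMod.isQCoh_and_isFP_of_isFinLocFree _ (flf_of_rank (rank_zero_of_isZero hF))).1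
  haveI : Epi (0 : dd N ⟶ (0 : Y.Modules)) := ⟨fun g h _ => hF.eq_of_src g h⟩
  have hex : (ShortComplex.mk (𝟙 (dd N)) (0 : dd N ⟶ (0 : Y.Modules)) comp_zero).ShortExact :=
      ShortComplex.Splitting.shortExact
        { r := 𝟙 _, s := 0, f_r := by simp, s_g := hF.eq_of_src _ _, id := by simp }
  have hc : IsVB (RelSpecLib.symAlg (dd N)).π (tautCoord (RelSpecLib.symAlg (dd N)) (RelSpecLib.symJ (dd N))) :=
    isVB_spec (RelSpecLib.isSymAlg_symAlg _)
  obtain ⟨W, q, cF, ι, wι, hι, hcF, eι⟩ := exists_subBundle hc (0 : dd N ⟶ (0 : Y.Modules))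
  haveI := hι
  have hEr : FlatMod.IsFinLocFreeOfRank (0 + 1) (dd N) := CurveLib.isFinLocFreeOfRank_one hM
  have hFr : FlatMod.IsFinLocFreeOfRank 0 (0 : Y.Modules) := rank_zero_of_isZero hF
  obtain ⟨hzero, -⟩ := zero_data hc hcF hex hM hEr hFr ι wι eι
  obtain ⟨-, hlft, -, -⟩ := isAffineHom_of_locTriv (hc.locTriv hEr)
  haveI := isIso_of_locTriv_zero (hcF.locTriv hFr)
  let i := inv q ≫ ι
  have hi : i ≫ (RelSpecLib.symAlg (dd N)).π = 𝟙 Y := by rw [Category.assoc, wι, IsIso.inv_hom_id]
  haveI : IsClosedImmersion i := inferInstanceAs (IsClosedImmersion (inv q ≫ ι))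
  refine ⟨_, _, i, _, _, hlft, inferInstance, hi, isInvertible_dd (AmpleLib.isInvertible_pullback _ hM),
    isZeroSchemeOf_iso (asIso q) i (by rw [show (asIso q).hom ≫ i = ι from IsIso.hom_inv_id_assoc q ι]; exact hzero), ?_⟩
  obtain ⟨e₁⟩ := nonempty_pullback_dd (RelSpecLib.symAlg (dd N)).π (hflf hM)
  haveI := LeffEtLib.isIso_bidual (hflf hN)
  exact ⟨(Scheme.Modules.pullback i).mapIso e₁.symm ≪≫
    (Scheme.Modules.pullbackComp i (RelSpecLib.symAlg (dd N)).π).app _ ≪≫
    (Scheme.Modules.pullbackCongr hi).app _ ≪≫ (Scheme.Modules.pullbackId Y).app _ ≪≫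
    (asIso (LeffEtLib.bidual N)).symm⟩

end Groth.Agent.BivarLib
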