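import Groth.Agent.BivarLib.C1Class
import Groth.Agent.BivarLib.Gysin
import Groth.Agent.BivarLib.ZeroSection

/-!
# Bivariant classes commute with first Chern classes
-/

set_option autoImplicit false
set_option backward.isDefEq.respectTransparency false
set_option linter.style.haveILetI false

universe u

open CategoryTheory CategoryTheory.Limits AlgebraicGeometry

noncomputable section

namespace Groth.Agent.BivarLib

open CycLib

variable {X Y : Scheme.{u}} {f : X ⟶ Y} {δX : X → ℤ} {δY : Y → ℤ} {p : ℤ}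

/-- A bivariant class commutes with first Chern classes of invertible modules on the test scheme. -/
theorem op_c1CH (hX : Cyc.IsSetup X δX) (hY : Cyc.IsSetup Y δY) (c : Bivar.Cl p f δX δY) (s : Bivar.Sq f δX δY)
    {N : s.Y'.Modules} (hN : PicF.IsInvertible N) (k : ℤ) (x : ChowOps.CH s.Y' s.δY' k) :
    c.op s (k - 1) (c1CH (isSetup_Y' hY s) hN k x) =
      Bivar.chCast s.X' s.δX' (sub_right_comm k p 1)
        (c1CH (isSetup_X' hX s) (AmpleLib.isInvertible_pullback s.f' hN) (k - p) (c.op s k x)) := by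
  haveI := (isSetup_Y' hY s).1
  haveI := (isSetup_X' hX s).1
  obtain ⟨V, π, i, L, σ, hπ, hi, hiπ, hL, hσ, ⟨e⟩⟩ := exists_zero_section hN
  haveI := hπ
  haveI := hi
  obtain ⟨δ₁, hδ₁⟩ := exists_delta π s.δY'
  haveI : LocallyOfFiniteType (pullback.snd π s.f') := MorphismProperty.pullback_snd _ _ hπ
  obtain ⟨δ₂, hδ₂⟩ := exists_delta (pullback.snd π s.f') s.δX'
  let t : Bivar.Sq f δX δY := s.paste ⟨V, pullback π s.f', π, pullback.fst π s.f', pullback.snd π s.f',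
    IsPullback.of_hasPullback _ _, hπ, δ₁, δ₂, hδ₁, hδ₂⟩
  haveI := (isSetup_Y' hY t).1
  haveI := (isSetup_X' hX t).1
  let j : s.X' ⟶ t.X' := pullback.lift (s.f' ≫ i) (𝟙 _) (by rw [Category.assoc, hiπ]; simp)
  have hj₁ : j ≫ pullback.fst π s.f' = s.f' ≫ i := pullback.lift_fst _ _ _
  have hj₂ : j ≫ pullback.snd π s.f' = 𝟙 _ := pullback.lift_snd _ _ _
  have sq : IsPullback j s.f' (pullback.fst π s.f') i := by
    refine IsPullback.of_right ?_ hj₁ (IsPullback.of_hasPullback π s.f').flip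
    rw [hj₂, hiπ]
    exact IsPullback.of_horiz_isIso ⟨by simp⟩
  haveI : IsClosedImmersion j := MorphismProperty.of_isPullback sq.flip hi
  have w₁ : i ≫ t.g = s.g := by
    show i ≫ π ≫ s.g = s.g
    rw [← Category.assoc, hiπ, Category.id_comp]
  have w₃ : j ≫ t.g' = s.g' := by
    show j ≫ pullback.snd π s.f' ≫ s.g' = s.g'
    rw [← Category.assoc, hj₂, Category.id_comp]
  have hd : Cyc.DeltaCompat i s.δY' t.δY' := deltaCompat_of_comp i t.g (by rw [w₁]; exact s.compatY) t.compatY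
  have hd' : Cyc.DeltaCompat j s.δX' t.δX' := deltaCompat_of_comp j t.g' (by rw [w₃]; exact s.compatX) t.compatX
  have hL' : PicF.IsInvertible ((Scheme.Modules.pullback t.f').obj L) := AmpleLib.isInvertible_pullback t.f' hL
  have hτ : Cyc.IsZeroSchemeOf j ((Scheme.Modules.pullback t.f').obj L) (pullSec t.f' L σ) :=
    isZeroSchemeOf_of_isPullback t.f' hL hσ sq
  let e' : (Scheme.Modules.pullback j).obj ((Scheme.Modules.pullback t.f').obj L) ≅
      (Scheme.Modules.pullback s.f').obj N :=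
    pullOverIso j t.f' (s.f' ≫ i) hj₁ L ≪≫ ((Scheme.Modules.pullbackComp s.f' i).app L).symm ≪≫
      (Scheme.Modules.pullback s.f').mapIso e
  obtain ⟨α, hα, rfl⟩ := Bivar.exists_rep x
  -- downstairs
  let A := AlgebraicCycle.map i s.δY' t.δY' α
  have hA : A ∈ Cyc.Zk t.Y' t.δY' k := Bivar.cycMap_mem_Zk i _ _ k hα
  let v : (η : s.Y') → Cyc.secFibre N η := fun η => fibMap e.hom η (pullFib i L η (secs hL (i η)))
  have hv : ∀ η, v η ≠ 0 := fun η =>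
    fibMap_ne_zero (AmpleLib.isInvertible_pullback i hL) e (pullFib_ne_zero i L hL (secs_ne_zero hL _))
  let γ := c1Cycle (isSetup_Y' hY s).2.2 hN α v
  have hγ : γ ∈ Cyc.Zk s.Y' s.δY' (k - 1) := mem_Zk_c1 hα rfl
  rw [c1CH_cl (isSetup_Y' hY s) hN α hα v hv γ rfl hγ]
  obtain ⟨β, hβ, eβ, H⟩ := c.gysin t s i j w₁ hj₁ w₃ L hL σ hσ (pullSec t.f' L σ) hτ k A hA
  obtain ⟨ζ, hζ, hζc, eζ⟩ := H (secs hL) (secs_ne_zero hL) γ
    (gysin_map_self i hd σ hσ (isSetup_Y' hY s) (isSetup_Y' hY t) e hL hN α) hγ (secs hL') (secs_ne_zero hL')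
  rw [eζ]
  -- upstairs
  obtain ⟨β₀, hβ₀, e₁, e₂⟩ := c.push t s i j w₁ hj₁ w₃ k α hα
  rw [e₁]
  have e₃ : ChowOps.cl β hβ =
      ChowOps.cl (AlgebraicCycle.map j s.δX' t.δX' β₀) (Bivar.cycMap_mem_Zk j _ _ (k - p) hβ₀) := eβ.symm.trans e₂
  have hζ' : ζ ∈ Cyc.Zk s.X' s.δX' (k - p - 1) := by rw [sub_right_comm k p 1]; exact hζ
  have g₁ : gysinCH (isSetup_X' hX t) j hd' hL' (pullSec t.f' L σ) hτ (secs_ne_zero hL') (k - p) (ChowOps.cl β hβ) =
      ChowOps.cl ζ hζ' := gysinCH_cl _ _ _ _ _ _ _ β hβ ζ hζc hζ'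
  let v' : (η : s.X') → Cyc.secFibre ((Scheme.Modules.pullback s.f').obj N) η := fun η =>
    fibMap e'.hom η (pullFib j _ η (secs hL' (j η)))
  have hv' : ∀ η, v' η ≠ 0 := fun η =>
    fibMap_ne_zero (AmpleLib.isInvertible_pullback j hL') e' (pullFib_ne_zero j _ hL' (secs_ne_zero hL' _))
  let γ' := c1Cycle (isSetup_X' hX s).2.2 (AmpleLib.isInvertible_pullback s.f' hN) β₀ v'
  have hγ' : γ' ∈ Cyc.Zk s.X' s.δX' (k - p - 1) := mem_Zk_c1 hβ₀ rfl
  have g₂ := gysinCH_cl (isSetup_X' hX t) j hd' hL' (pullSec t.f' L σ) hτ (secs_ne_zero hL') _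
    (Bivar.cycMap_mem_Zk j s.δX' t.δX' (k - p) hβ₀) γ'
    (gysin_map_self j hd' (pullSec t.f' L σ) hτ (isSetup_X' hX s) (isSetup_X' hX t) e' hL' _ β₀) hγ'
  rw [← e₃, g₁] at g₂
  rw [c1CH_cl (isSetup_X' hX s) (AmpleLib.isInvertible_pullback s.f' hN) β₀ hβ₀ v' hv' γ' rfl hγ', ← g₂,
    Bivar.chCast_cl]

/-- The cap with a first Chern class depends on the isomorphism class of the module only. -/
theorem c1CH_iso {Z : Scheme.{u}} {δ : Z → ℤ} (hZ : Cyc.IsSetup Z δ) {L L' : Z.Modules} (hL : PicF.IsInvertible L)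
    (hL' : PicF.IsInvertible L') (e : L ≅ L') (k : ℤ) : c1CH hZ hL k = c1CH hZ hL' k := by
  haveI := hZ.1
  refine AddMonoidHom.ext fun x => ?_
  obtain ⟨α, hα, rfl⟩ := Bivar.exists_rep x
  let γ := c1Cycle hZ.2.2 hL α (secs hL)
  have hγ : γ ∈ Cyc.Zk Z δ (k - 1) := mem_Zk_c1 hα rfl
  rw [c1CH_cl hZ hL α hα (secs hL) (secs_ne_zero hL) γ rfl hγ,
    c1CH_cl hZ hL' α hα (fun η => fibMap e.hom η (secs hL η)) (fun η => fibMap_ne_zero hL e (secs_ne_zero hL η)) γ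
      (c1CapFun_iso hZ.2.2 hL e ⇑α (secs hL)).symm hγ]

/-- An operational class commutes with first Chern classes of invertible modules on the test scheme. -/
theorem opCl_c1CH {q : ℤ} (hX : Cyc.IsSetup X δX) (d : Bivar.OpCl q X δX) (s : Bivar.OSq X δX) {N : s.Y.Modules}
    (hN : PicF.IsInvertible N) (k : ℤ) (x : ChowOps.CH s.Y s.δ k) :
    d.op s (k - 1) (c1CH (isSetup_osq hX s) hN k x) =
      Bivar.chCast s.Y s.δ (sub_right_comm k q 1) (c1CH (isSetup_osq hX s) hN (k - q) (d.op s k x)) := by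
  haveI := (isSetup_osq hX s).1
  haveI := s.lft
  obtain ⟨V, π, i, L, σ, hπ, hi, hiπ, hL, hσ, ⟨e⟩⟩ := exists_zero_section hN
  haveI := hπ
  haveI := hi
  obtain ⟨δ₁, hδ₁⟩ := exists_delta π s.δ
  let t : Bivar.OSq X δX := ⟨V, π ≫ s.g, inferInstance, δ₁, Bivar.deltaCompat_comp π s.g δ₁ s.δ δX hδ₁ s.compat⟩
  haveI := (isSetup_osq hX t).1
  have w₁ : i ≫ t.g = s.g := by
    show i ≫ π ≫ s.g = s.g
    rw [← Category.assoc, hiπ, Category.id_comp]
  have hd : Cyc.DeltaCompat i s.δ t.δ := deltaCompat_of_comp i t.g (by rw [w₁]; exact s.compat) t.compat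
  obtain ⟨α, hα, rfl⟩ := Bivar.exists_rep x
  let A := AlgebraicCycle.map i s.δ t.δ α
  have hA : A ∈ Cyc.Zk t.Y t.δ k := Bivar.cycMap_mem_Zk i _ _ k hα
  let v : (η : s.Y) → Cyc.secFibre N η := fun η => fibMap e.hom η (pullFib i L η (secs hL (i η)))
  have hv : ∀ η, v η ≠ 0 := fun η =>
    fibMap_ne_zero (AmpleLib.isInvertible_pullback i hL) e (pullFib_ne_zero i L hL (secs_ne_zero hL _))
  let γ := c1Cycle (isSetup_osq hX s).2.2 hN α v
  have hγ : γ ∈ Cyc.Zk s.Y s.δ (k - 1) := mem_Zk_c1 hα rfl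
  rw [c1CH_cl (isSetup_osq hX s) hN α hα v hv γ rfl hγ]
  obtain ⟨β, hβ, eβ, H⟩ := d.gysin t s i w₁ L hL σ hσ k A hA
  obtain ⟨ζ, hζ, hζc, eζ⟩ := H (secs hL) (secs_ne_zero hL) γ
    (gysin_map_self i hd σ hσ (isSetup_osq hX s) (isSetup_osq hX t) e hL hN α) hγ
  rw [eζ]
  obtain ⟨β₀, hβ₀, e₁, e₂⟩ := d.push t s i w₁ k α hα
  rw [e₁]
  have e₃ : ChowOps.cl β hβ =
      ChowOps.cl (AlgebraicCycle.map i s.δ t.δ β₀) (Bivar.cycMap_mem_Zk i _ _ (k - q) hβ₀) := eβ.symm.trans e₂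
  have hζ' : ζ ∈ Cyc.Zk s.Y s.δ (k - q - 1) := by rw [sub_right_comm k q 1]; exact hζ
  have g₁ : gysinCH (isSetup_osq hX t) i hd hL σ hσ (secs_ne_zero hL) (k - q) (ChowOps.cl β hβ) =
      ChowOps.cl ζ hζ' := gysinCH_cl _ _ _ _ _ _ _ β hβ ζ hζc hζ'
  let γ' := c1Cycle (isSetup_osq hX s).2.2 hN β₀ v
  have hγ' : γ' ∈ Cyc.Zk s.Y s.δ (k - q - 1) := mem_Zk_c1 hβ₀ rfl
  have g₂ := gysinCH_cl (isSetup_osq hX t) i hd hL σ hσ (secs_ne_zero hL) _
    (Bivar.cycMap_mem_Zk i s.δ t.δ (k - q) hβ₀) γ'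
    (gysin_map_self i hd σ hσ (isSetup_osq hX s) (isSetup_osq hX t) e hL hN β₀) hγ'
  rw [← e₃, g₁] at g₂
  rw [c1CH_cl (isSetup_osq hX s) hN β₀ hβ₀ v hv γ' rfl hγ', ← g₂, Bivar.chCast_cl]

end Groth.Agent.BivarLib
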