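import Groth.Agent.BivarLib.C1Class
import Groth.Agent.BivarLib.Gysin
import Groth.Agent.CycLib.Chern.Bundle
import Groth.Agent.CycLib.Chern.Push
import Groth.Agent.CycLib.Chern.Gysin

/-!
# Chern classes as operational classes
-/

set_option autoImplicit false
set_option backward.isDefEq.respectTransparency false
set_option linter.style.haveILetI false

universe u

open CategoryTheory CategoryTheory.Limits AlgebraicGeometry
open scoped ZeroObject

noncomputable section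

namespace Groth.Agent.BivarLib

open CycLib

section Setting

variable {X P : Scheme.{u}} {p : P ⟶ X} {O1 : P.Modules} {δP : P → ℤ} {δ : X → ℤ} {n : ℕ}
  (S : PB.Setting p O1 δP δ n) [IsLocallyNoetherian P] [IsLocallyNoetherian X]

include S in
theorem chern_add {k : ℤ} {a b : AlgebraicCycle X ℤ} {γ γ' : Fin (n + 1 + 1) → AlgebraicCycle X ℤ}
    (h : Cyc.IsChernCap p δ δP O1 (n + 1) k a γ) (h' : Cyc.IsChernCap p δ δP O1 (n + 1) k b γ') :
    Cyc.IsChernCap p δ δP O1 (n + 1) k (a + b) (γ + γ') := by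
  obtain ⟨t₀, ht₀⟩ := exists_secs S.inv
  obtain ⟨h0, hd, hr⟩ := (S.isChernCap_iff (fun _ => t₀) fun _ => ht₀).1 h
  obtain ⟨h0', hd', hr'⟩ := (S.isChernCap_iff (fun _ => t₀) fun _ => ht₀).1 h'
  refine (S.isChernCap_iff (fun _ => t₀) fun _ => ht₀).2
    ⟨by rw [Pi.add_apply, h0, h0'], fun j => (ChowOps.zk X δ _).add_mem (hd j) (hd' j), ?_⟩
  have e : S.relSum (fun _ => t₀) (γ + γ') = S.relSum (fun _ => t₀) γ + S.relSum (fun _ => t₀) γ' := by
    have hseq : ∀ (a b : AlgebraicCycle X ℤ) (m : ℕ),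
        S.seq (fun _ => t₀) (a + b) m = S.seq (fun _ => t₀) a m + S.seq (fun _ => t₀) b m :=
      fun a b m => map_add (S.seqHom (fun _ => t₀) m) a b
    rw [PB.Setting.relSum, PB.Setting.relSum, PB.Setting.relSum, ← Finset.sum_add_distrib]
    refine Finset.sum_congr rfl fun i _ => ?_
    rw [Pi.add_apply, hseq, smul_add]
  rw [e]
  exact ratEquivZero_add hr hr'

include S in
/-- A tuple rationally equivalent to a Chern cap is a Chern cap. -/
theorem chern_congr {k : ℤ} {α : AlgebraicCycle X ℤ} {γ ζ : Fin (n + 1 + 1) → AlgebraicCycle X ℤ}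
    (h : Cyc.IsChernCap p δ δP O1 (n + 1) k α γ) (h0 : ζ 0 = α) (hd : ∀ j : Fin (n + 1 + 1), ζ j ∈ Cyc.Zk X δ (k - ((j : ℕ) : ℤ)))
    (he : ∀ j : Fin (n + 1 + 1), Cyc.RatEquiv δ (k - ((j : ℕ) : ℤ)) (ζ j) (γ j)) :
    Cyc.IsChernCap p δ δP O1 (n + 1) k α ζ := by
  obtain ⟨t₀, ht₀⟩ := exists_secs S.inv
  obtain ⟨-, -, hr⟩ := (S.isChernCap_iff (fun _ => t₀) fun _ => ht₀).1 h
  refine (S.isChernCap_iff (fun _ => t₀) fun _ => ht₀).2 ⟨h0, hd, ?_⟩
  have hdiff : Cyc.RatEquivZero δP (k - 1) (S.relSum (fun _ => t₀) ζ - S.relSum (fun _ => t₀) γ) := by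
    rw [PB.Setting.relSum, PB.Setting.relSum, ← Finset.sum_sub_distrib]
    refine (ratZero S.hP.2.2 (k - 1)).sum_mem fun i _ => ?_
    rw [← smul_sub, ← S.seq_sub]
    refine ratEquivZero_zsmul S.hP.2.2 ?_ _
    have hh := S.seq_ratEquivZero (fun _ => t₀) (fun _ => ht₀) (he (Fin.rev i)) (i : ℕ)
    have e : k - ((((Fin.rev i : Fin (n + 1 + 1))) : ℕ) : ℤ) + n - ((i : ℕ) : ℤ) = k - 1 := by
      rw [Fin.val_rev]; omega
    rwa [e] at hh
  have h2 := ratEquivZero_add hdiff hr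
  rwa [sub_add_cancel] at h2

end Setting

/-- The module of a base change of an isomorphism. -/
def pullFstIso {A B C : Scheme.{u}} (k : A ⟶ B) (g : B ⟶ C) (g' : A ⟶ C) (w : k ≫ g = g') (M : C.Modules) :
    (Scheme.Modules.pullback g').obj M ≅ (Scheme.Modules.pullback k).obj ((Scheme.Modules.pullback g).obj M) :=
  (pullOverIso k g g' w M).symm

section Ops

variable {X P : Scheme.{u}} {δX : X → ℤ} {p : P ⟶ X} [IsProper p] {E : X.Modules} {O1 : P.Modules} {n : ℕ}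
  {q : (Scheme.Modules.pullback p).obj E ⟶ O1}

/-- The dimension function on the pulled back bundle. -/
def δB (p : P ⟶ X) [IsProper p] (s : Bivar.OSq X δX) : ↥(pullback p s.g) → ℤ :=
  (exists_delta (pullback.snd p s.g) s.δ).choose

theorem compat_δB (s : Bivar.OSq X δX) : Cyc.DeltaCompat (pullback.snd p s.g) (δB p s) s.δ :=
  (exists_delta (pullback.snd p s.g) s.δ).choose_spec

theorem isSetup_B (hX : Cyc.IsSetup X δX) (s : Bivar.OSq X δX) : Cyc.IsSetup (pullback p s.g) (δB p s) :=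
  CycLib.isSetup_of_lft (pullback.snd p s.g) (isSetup_osq hX s) (compat_δB s)

variable (hX : Cyc.IsSetup X δX) (hE : FlatMod.IsFinLocFreeOfRank (n + 1) E) (hP : KRR.IsProjBundle p E O1 q)

include hX hE hP in
theorem setting_B (s : Bivar.OSq X δX) :
    PB.Setting (pullback.snd p s.g) ((Scheme.Modules.pullback (pullback.fst p s.g)).obj O1) (δB p s) s.δ n :=
  PB.setting_of_isPullback (IsPullback.of_hasPullback p s.g) hE hP (isSetup_osq hX s) (isSetup_B hX s) (compat_δB s)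

include hX hE hP in
theorem exists_cap (s : Bivar.OSq X δX) (k : ℤ) (α : AlgebraicCycle s.Y ℤ) (hα : α ∈ Cyc.Zk s.Y s.δ k) :
    ∃ γ : Fin (n + 1 + 1) → AlgebraicCycle s.Y ℤ, Cyc.IsChernCap (pullback.snd p s.g) s.δ (δB p s)
      ((Scheme.Modules.pullback (pullback.fst p s.g)).obj O1) (n + 1) k α γ := by
  haveI := (isSetup_osq hX s).1
  haveI := (isSetup_B (p := p) hX s).1
  exact (setting_B hX hE hP s).exists_chern α hα

/-- The chosen Chern cap. -/
def capOf (s : Bivar.OSq X δX) (k : ℤ) (a : ↥(ChowOps.zk s.Y s.δ k)) : Fin (n + 1 + 1) → AlgebraicCycle s.Y ℤ :=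
  (exists_cap hX hE hP s k a.1 a.2).choose

theorem isCap_capOf (s : Bivar.OSq X δX) (k : ℤ) (a : ↥(ChowOps.zk s.Y s.δ k)) :
    Cyc.IsChernCap (pullback.snd p s.g) s.δ (δB p s) ((Scheme.Modules.pullback (pullback.fst p s.g)).obj O1) (n + 1) k
      a.1 (capOf hX hE hP s k a) :=
  (exists_cap hX hE hP s k a.1 a.2).choose_spec

theorem cl_capOf (s : Bivar.OSq X δX) (k : ℤ) (a : ↥(ChowOps.zk s.Y s.δ k)) {γ : Fin (n + 1 + 1) → AlgebraicCycle s.Y ℤ}
    {α : AlgebraicCycle s.Y ℤ} (h : Cyc.RatEquiv s.δ k a.1 α)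
    (hγ : Cyc.IsChernCap (pullback.snd p s.g) s.δ (δB p s) ((Scheme.Modules.pullback (pullback.fst p s.g)).obj O1)
      (n + 1) k α γ) (j : Fin (n + 1 + 1)) :
    ChowOps.cl (capOf hX hE hP s k a j) ((isCap_capOf hX hE hP s k a).2.1 j) = ChowOps.cl (γ j) (hγ.2.1 j) := by
  haveI := (isSetup_osq hX s).1
  haveI := (isSetup_B (p := p) hX s).1
  exact cl_eq_of_ratEquiv _ _ ((setting_B hX hE hP s).chern_unique h (isCap_capOf hX hE hP s k a) hγ j)

theorem ratEquiv_self {Z : Scheme.{u}} {δ : Z → ℤ} (k : ℤ) (α : AlgebraicCycle Z ℤ) : Cyc.RatEquiv δ k α α :=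
  show Cyc.RatEquivZero δ k (α - α) by rw [sub_self]; exact ratEquivZero_zero

/-- A component of the Chern cap on cycles, with values in classes. -/
def capHom (s : Bivar.OSq X δX) (k : ℤ) (j : Fin (n + 1 + 1)) :
    ↥(ChowOps.zk s.Y s.δ k) →+ ChowOps.CH s.Y s.δ (k - ((j : ℕ) : ℤ)) :=
  haveI := (isSetup_osq hX s).1
  haveI := (isSetup_B (p := p) hX s).1
  AddMonoidHom.mk' (fun a => ChowOps.cl (capOf hX hE hP s k a j) ((isCap_capOf hX hE hP s k a).2.1 j))
    fun a b =>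
      (cl_capOf hX hE hP s k (a + b) (ratEquiv_self k _)
        (chern_add (setting_B hX hE hP s) (isCap_capOf hX hE hP s k a) (isCap_capOf hX hE hP s k b)) j).trans
        (Bivar.cl_add _ _ _ _)

theorem capHom_kill (s : Bivar.OSq X δX) (k : ℤ) (j : Fin (n + 1 + 1)) (a : ↥(ChowOps.zk s.Y s.δ k))
    (h : Cyc.RatEquivZero s.δ k (a : AlgebraicCycle s.Y ℤ)) : capHom hX hE hP s k j a = 0 := by
  have e : Cyc.RatEquiv s.δ k a.1 ((0 : ↥(ChowOps.zk s.Y s.δ k)) : AlgebraicCycle s.Y ℤ) :=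
    show Cyc.RatEquivZero s.δ k ((a : AlgebraicCycle s.Y ℤ) - 0) by rw [sub_zero]; exact h
  exact (cl_capOf hX hE hP s k a e (isCap_capOf hX hE hP s k 0) j).trans (map_zero (capHom hX hE hP s k j))

/-- A component of the Chern cap on classes. -/
def chernHom (s : Bivar.OSq X δX) (k : ℤ) (j : Fin (n + 1 + 1)) :
    ChowOps.CH s.Y s.δ k →+ ChowOps.CH s.Y s.δ (k - ((j : ℕ) : ℤ)) :=
  descend (capHom hX hE hP s k j) (capHom_kill hX hE hP s k j)

theorem chernHom_cl (s : Bivar.OSq X δX) (k : ℤ) (j : Fin (n + 1 + 1)) (α : AlgebraicCycle s.Y ℤ)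
    (hα : α ∈ Cyc.Zk s.Y s.δ k) {γ : Fin (n + 1 + 1) → AlgebraicCycle s.Y ℤ}
    (hγ : Cyc.IsChernCap (pullback.snd p s.g) s.δ (δB p s) ((Scheme.Modules.pullback (pullback.fst p s.g)).obj O1)
      (n + 1) k α γ) :
    chernHom hX hE hP s k j (ChowOps.cl α hα) = ChowOps.cl (γ j) (hγ.2.1 j) :=
  cl_capOf hX hE hP s k ⟨α, hα⟩ (ratEquiv_self k α) hγ j

/-- The comparison of pulled back bundles. -/
def bMap (p : P ⟶ X) (s t : Bivar.OSq X δX) (h : t.Y ⟶ s.Y) (w : h ≫ s.g = t.g) : pullback p t.g ⟶ pullback p s.g :=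
  pullback.lift (pullback.fst p t.g) (pullback.snd p t.g ≫ h) (by rw [Category.assoc, w, pullback.condition])

theorem sq_bMap (s t : Bivar.OSq X δX) (h : t.Y ⟶ s.Y) (w : h ≫ s.g = t.g) :
    IsPullback (bMap p s t h w) (pullback.snd p t.g) (pullback.snd p s.g) h :=
  (IsPullback.of_right (v₁₁ := pullback.snd p t.g) (v₁₂ := pullback.snd p s.g)
    (h₁₁ := bMap p s t h w) (h₂₁ := h) (v₁₃ := p) (h₁₂ := pullback.fst p s.g) (h₂₂ := s.g)
    (by rw [show bMap p s t h w ≫ pullback.fst p s.g = pullback.fst p t.g from pullback.lift_fst _ _ _, w]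
        exact IsPullback.of_hasPullback p t.g)
    (pullback.lift_snd _ _ _) (IsPullback.of_hasPullback p s.g))

include hX hE hP in
theorem setting_bMap (s t : Bivar.OSq X δX) (h : t.Y ⟶ s.Y) (w : h ≫ s.g = t.g) :
    PB.Setting (pullback.snd p t.g)
      ((Scheme.Modules.pullback (bMap p s t h w)).obj ((Scheme.Modules.pullback (pullback.fst p s.g)).obj O1))
      (δB p t) t.δ n :=
  (setting_B hX hE hP t).ofModIso (pullFstIso _ _ _ (pullback.lift_fst _ _ _) O1)

theorem cap_ofIso (s t : Bivar.OSq X δX) (h : t.Y ⟶ s.Y) (w : h ≫ s.g = t.g) {k : ℤ} {α : AlgebraicCycle t.Y ℤ}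
    {γ : Fin (n + 1 + 1) → AlgebraicCycle t.Y ℤ} (hX : Cyc.IsSetup X δX) (hE : FlatMod.IsFinLocFreeOfRank (n + 1) E)
    (hP : KRR.IsProjBundle p E O1 q)
    (hγ : Cyc.IsChernCap (pullback.snd p t.g) t.δ (δB p t)
      ((Scheme.Modules.pullback (bMap p s t h w)).obj ((Scheme.Modules.pullback (pullback.fst p s.g)).obj O1))
      (n + 1) k α γ) :
    Cyc.IsChernCap (pullback.snd p t.g) t.δ (δB p t) ((Scheme.Modules.pullback (pullback.fst p t.g)).obj O1)
      (n + 1) k α γ := by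
  haveI := (isSetup_osq hX t).1
  haveI := (isSetup_B (p := p) hX t).1
  exact (setting_bMap hX hE hP s t h w).chern_ofModIso (pullFstIso _ _ _ (pullback.lift_fst _ _ _) O1).symm hγ

/-- The operational Chern class of positive degree at most the rank. -/
def chernOp (j : ℕ) (hj : j < n + 1 + 1) : Bivar.OpCl (j : ℤ) X δX where
  op s k := chernHom hX hE hP s k ⟨j, hj⟩
  push s t h _ w k := by
    haveI := (isSetup_osq hX s).1
    haveI := (isSetup_osq hX t).1
    haveI := (isSetup_B (p := p) hX s).1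
    haveI := (isSetup_B (p := p) hX t).1
    haveI : IsProper (bMap p s t h w) := MorphismProperty.of_isPullback (sq_bMap s t h w).flip (inferInstance : IsProper h)
    have hd : Cyc.DeltaCompat h t.δ s.δ := deltaCompat_of_comp h s.g (by rw [w]; exact t.compat) s.compat
    intro α hα
    let γ := capOf hX hE hP t k ⟨α, hα⟩
    have hγ := isCap_capOf hX hE hP t k ⟨α, hα⟩
    have hγ' : Cyc.IsChernCap (pullback.snd p t.g) t.δ (δB p t)
        ((Scheme.Modules.pullback (bMap p s t h w)).obj ((Scheme.Modules.pullback (pullback.fst p s.g)).obj O1))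
        (n + 1) k α γ := (setting_B hX hE hP t).chern_ofModIso (pullFstIso _ _ _ (pullback.lift_fst _ _ _) O1) hγ
    refine ⟨γ ⟨j, hj⟩, hγ.2.1 ⟨j, hj⟩, rfl, ?_⟩
    exact chernHom_cl hX hE hP s k ⟨j, hj⟩ _ _ ((setting_B hX hE hP s).chern_push (setting_bMap hX hE hP s t h w)
      (sq_bMap s t h w) hd (CycLib.deltaCompat_top (sq_bMap s t h w).w hd (compat_δB s) (compat_δB t)) hγ')
  pull s t h _ r hr w k := by
    haveI := (isSetup_osq hX s).1
    haveI := (isSetup_osq hX t).1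
    haveI := (isSetup_B (p := p) hX s).1
    haveI := (isSetup_B (p := p) hX t).1
    haveI : LocallyOfFiniteType (h ≫ s.g) := w ▸ t.lft
    haveI := locallyOfFiniteType_of_comp h s.g
    haveI : Flat (bMap p s t h w) := MorphismProperty.of_isPullback (sq_bMap s t h w).flip (inferInstance : Flat h)
    have hd : Cyc.DeltaCompat h t.δ s.δ := deltaCompat_of_comp h s.g (by rw [w]; exact t.compat) s.compat
    have hs := IsShift.of_relDim (isSetup_osq hX t) (isSetup_osq hX s) r hr hd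
    have hs' := CycLib.isShift_square (sq_bMap s t h w) (isSetup_osq hX t) (isSetup_osq hX s) (isSetup_B (p := p) hX s)
      (isSetup_B (p := p) hX t) r hr hd (compat_δB s) (compat_δB t)
    intro α hα
    let γ := capOf hX hE hP s k ⟨α, hα⟩
    have hγ := isCap_capOf hX hE hP s k ⟨α, hα⟩
    refine ⟨γ ⟨j, hj⟩, hγ.2.1 ⟨j, hj⟩, rfl, fun α₁ hc hα₁ => ?_⟩
    let β := fun l => pullCycle hs (isSetup_osq hX t).2.2 (γ l)
    have hβ := cap_ofIso s t h w hX hE hP ((setting_B hX hE hP s).chern_pull (setting_bMap hX hE hP s t h w) hs hs'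
      (sq_bMap s t h w).w hγ hc (β := β) fun _ => rfl)
    exact ⟨β ⟨j, hj⟩, hβ.2.1 ⟨j, hj⟩, rfl, chernHom_cl hX hE hP t (k + r) ⟨j, hj⟩ α₁ hα₁ hβ⟩
  gysin s t i _ w L hL σ hσ k := by
    haveI := (isSetup_osq hX s).1
    haveI := (isSetup_osq hX t).1
    haveI := (isSetup_B (p := p) hX s).1
    haveI := (isSetup_B (p := p) hX t).1
    haveI : IsClosedImmersion (bMap p s t i w) :=
      MorphismProperty.of_isPullback (sq_bMap s t i w).flip (inferInstance : IsClosedImmersion i)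
    have hd : Cyc.DeltaCompat i t.δ s.δ := deltaCompat_of_comp i s.g (by rw [w]; exact t.compat) s.compat
    have hdB : Cyc.DeltaCompat (bMap p s t i w) (δB p t) (δB p s) :=
      CycLib.deltaCompat_top (sq_bMap s t i w).w hd (compat_δB s) (compat_δB t)
    have e₁ := delta_unique hd (CycLib.deltaCompat_preimmersion i s.δ)
    have e₂ := delta_unique hdB (CycLib.deltaCompat_preimmersion (bMap p s t i w) (δB p s))
    have S' := setting_bMap hX hE hP s t i w
    rw [e₁, e₂] at S'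
    intro α hα
    let γ := capOf hX hE hP s k ⟨α, hα⟩
    have hγ := isCap_capOf hX hE hP s k ⟨α, hα⟩
    refine ⟨γ ⟨j, hj⟩, hγ.2.1 ⟨j, hj⟩, rfl, fun v hv a ha hak => ?_⟩
    have h1 := (setting_B hX hE hP s).chern_gysin S' (sq_bMap s t i w) hL hσ hv hγ
    rw [← e₁, ← e₂] at h1
    have h2 := cap_ofIso s t i w hX hE hP h1
    have ea : gysinHom (isSetup_osq hX s).2.2 hL i (Cyc.gysinChoice L σ v) α = a :=
      Function.locallyFinsuppWithin.ext fun d => (ha d).symm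
    refine ⟨gysinHom (setting_B hX hE hP s).hX.2.2 hL i (Cyc.gysinChoice L σ v) (γ ⟨j, hj⟩), h2.2.1 ⟨j, hj⟩, fun d => rfl, ?_⟩
    refine (congrArg _ (Bivar.cl_congr ea.symm hak (h2.1 ▸ h2.2.1 0 |> fun h => by simpa using h))).trans
      (chernHom_cl hX hE hP t (k - 1) ⟨j, hj⟩ _ _ h2)

end Ops

/-- Chern classes of an isomorphic module, from a split form. -/
theorem exists_ses_id {X : Scheme.{u}} [IsLocallyNoetherian X] (E : X.Modules) :
    ∃ (A : X.Modules) (_ : IsZero A) (a : A ⟶ E) (hab : a ≫ 𝟙 E = 0), (ShortComplex.mk a (𝟙 E) hab).ShortExact := by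
  obtain ⟨A, hA⟩ : ∃ A : X.Modules, IsZero A := ⟨_, (isZero_zero X.Modules : IsZero _)⟩
  refine ⟨A, hA, 0, by simp, ShortComplex.Splitting.shortExact { r := 0, s := 𝟙 E, f_r := hA.eq_of_src _ _, s_g := by simp, id := by simp }⟩

/-- Projective bundles are proper. -/
theorem isProper_of_isProjBundle {X P : Scheme.{u}} {E : X.Modules} {r : ℕ}
    (hE : FlatMod.IsFinLocFreeOfRank r E) {p : P ⟶ X} {O1 : P.Modules} {q : (Scheme.Modules.pullback p).obj E ⟶ O1}
    (hP : KRR.IsProjBundle p E O1 q) : IsProper p := by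
  obtain ⟨P₀, p₀, O₀, φ, ⟨D⟩⟩ := ProjBundleLib.exists_bundle (GrassShLib.isCoh_of_rank hE).1
  obtain ⟨v, hv, -, hiso, -⟩ := PB.exists_iso_of_isGrass (GrassShLib.isGrass_of_pdata D) (Grass.IsGrass.of_isProjBundle hP)
  haveI := hiso
  haveI := D.isProper (GrassShLib.isCoh_of_rank hE).2
  rw [← hv]
  infer_instance

/-- Every finite locally free module has a proper projective bundle. -/
theorem exists_proper_bundle {X : Scheme.{u}} {E : X.Modules} {r : ℕ} (hE : FlatMod.IsFinLocFreeOfRank r E) :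
    ∃ (P : Scheme.{u}) (p : P ⟶ X) (O1 : P.Modules) (q : (Scheme.Modules.pullback p).obj E ⟶ O1),
      KRR.IsProjBundle p E O1 q ∧ IsProper p := by
  obtain ⟨P₀, p₀, O₀, φ, ⟨D⟩⟩ := ProjBundleLib.exists_bundle (GrassShLib.isCoh_of_rank hE).1
  haveI : Coh.IsQCoh E := (GrassShLib.isCoh_of_rank hE).1
  exact ⟨P₀, p₀, O₀, _, (GrassShLib.isGrass_of_pdata D).isProjBundle, D.isProper (GrassShLib.isCoh_of_rank hE).2⟩

/-- Equal classes come from rationally equivalent cycles. -/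
theorem ratEquiv_of_cl_eq {X : Scheme.{u}} [IsLocallyNoetherian X] {δ : X → ℤ} (hδ : Cyc.IsDimFun X δ) {k : ℤ} {α β : AlgebraicCycle X ℤ}
    {hα : α ∈ Cyc.Zk X δ k} {hβ : β ∈ Cyc.Zk X δ k} (h : ChowOps.cl α hα = ChowOps.cl β hβ) : Cyc.RatEquiv δ k α β := by
  have h1 : (⟨α, hα⟩ - ⟨β, hβ⟩ : ↥(ChowOps.zk X δ k)) ∈ ChowOps.ratTriv X δ k := QuotientAddGroup.eq_iff_sub_mem.1 h
  have h2 : ∀ z ∈ ChowOps.ratTriv X δ k, Cyc.RatEquivZero δ k (z : AlgebraicCycle X ℤ) := fun z hz => by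
    induction hz using AddSubgroup.closure_induction with
    | mem z hz => exact hz
    | zero => exact ratEquivZero_zero
    | add a b _ _ ha hb => exact ratEquivZero_add ha hb
    | neg a _ ha => exact ratEquivZero_neg hδ ha
  exact h2 _ h1

/-- Every class has a representative. -/
theorem exists_cl {X : Scheme.{u}} {δ : X → ℤ} {k : ℤ} (a : ChowOps.CH X δ k) :
    ∃ (α : AlgebraicCycle X ℤ) (hα : α ∈ Cyc.Zk X δ k), ChowOps.cl α hα = a := by
  induction a using QuotientAddGroup.induction_on with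
  | H z => exact ⟨z.1, z.2, rfl⟩

section Families

variable {X : Scheme.{u}} {δX : X → ℤ} {E : X.Modules}

/-- The family of operational Chern classes built from a proper projective bundle. -/
def chernFam (hX : Cyc.IsSetup X δX) {n : ℕ} (hE : FlatMod.IsFinLocFreeOfRank (n + 1) E) {P : Scheme.{u}} {p : P ⟶ X}
    [IsProper p] {O1 : P.Modules} {q : (Scheme.Modules.pullback p).obj E ⟶ O1} (hP : KRR.IsProjBundle p E O1 q) :
    (j : ℕ) → Bivar.OpCl (j : ℤ) X δX
  | 0 => Bivar.OpCl.one X δX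
  | j + 1 => if h : j + 1 < n + 1 + 1 then chernOp hX hE hP (j + 1) h else 0

theorem isChernClasses_chernFam (hX : Cyc.IsSetup X δX) {n : ℕ} (hE : FlatMod.IsFinLocFreeOfRank (n + 1) E)
    {P : Scheme.{u}} {p : P ⟶ X} [IsProper p] {O1 : P.Modules} {q : (Scheme.Modules.pullback p).obj E ⟶ O1}
    (hP : KRR.IsProjBundle p E O1 q) : Bivar.IsChernClasses E (n + 1) (chernFam hX hE hP) := by
  refine ⟨hE, rfl, fun j hj => ?_, ?_⟩
  · obtain ⟨j, rfl⟩ : ∃ i, j = i + 1 := ⟨j - 1, by omega⟩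
    exact dif_neg (by omega)
  intro s Q π OQ qQ hQ δQ hδQ k α hα ζ h0 hζ hc
  haveI := hX.1
  have hY := isSetup_osq hX s
  haveI := hY.1
  haveI := (isSetup_B (p := p) hX s).1
  haveI := isProper_of_isProjBundle (FlagLib.rank_pullback s.g E hE) hQ
  have hQs : Cyc.IsSetup Q δQ := CycLib.isSetup_of_lft π hY hδQ
  haveI := hQs.1
  -- a Chern cap on the chosen bundle
  have S := setting_B hX hE hP s
  have hB : Cyc.IsChernCap (pullback.snd p s.g) s.δ (δB p s) ((Scheme.Modules.pullback (pullback.fst p s.g)).obj O1)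
      (n + 1) k α ζ := by
    have hγ := isCap_capOf hX hE hP s k ⟨α, hα⟩
    refine chern_congr S hγ h0 hζ fun j => ?_
    rcases Nat.eq_zero_or_pos (j : ℕ) with hj | hj
    · obtain rfl : j = 0 := Fin.ext hj
      rw [h0, hγ.1]
      exact ratEquiv_self _ _
    · obtain ⟨⟨_ | i, hi⟩, rfl⟩ : ∃ i : Fin (n + 1 + 1), i = j := ⟨j, rfl⟩
      · simp at hj
      · refine ratEquiv_of_cl_eq hY.2.2 (hα := hζ _) (hβ := hγ.2.1 _) ?_
        have h := (hc ⟨i + 1, hi⟩).symm
        rw [show chernFam hX hE hP (i + 1) = chernOp hX hE hP (i + 1) hi from dif_pos hi] at h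
        exact h.trans (chernHom_cl hX hE hP s k ⟨i + 1, hi⟩ α hα hγ)
  -- the same cap on a bundle of the pulled back module
  obtain ⟨P₁, p₁, O₁, q₁, g, hP₁, hp₁, hsq, ⟨eO⟩⟩ := exists_bundle_pullback hE hP s.g
  haveI := hp₁
  obtain ⟨δ₁, hδ₁⟩ := exists_delta p₁ s.δ
  have hP₁s : Cyc.IsSetup P₁ δ₁ := CycLib.isSetup_of_lft p₁ hY hδ₁
  haveI := hP₁s.1
  let ι : pullback p s.g ⟶ P₁ := hsq.isoPullback.inv
  have hι : ι ≫ p₁ = pullback.snd p s.g := hsq.isoPullback_inv_snd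
  have S₁ := PB.setting_of_isProjBundle (FlagLib.rank_pullback s.g E hE) hP₁ hY hP₁s hδ₁
  let eι : (Scheme.Modules.pullback (pullback.fst p s.g)).obj O1 ≅ (Scheme.Modules.pullback ι).obj O₁ :=
    pullFstIso ι g (pullback.fst p s.g) hsq.isoPullback_inv_fst O1 ≪≫ (Scheme.Modules.pullback ι).mapIso eO
  have hc' : Cyc.DeltaCompat (𝟙 s.Y) s.δ s.δ := CycLib.deltaCompat_preimmersion (𝟙 s.Y) s.δ
  have hιc : Cyc.DeltaCompat ι (δB p s) δ₁ := deltaCompat_of_comp ι p₁ (by rw [hι]; exact compat_δB s) hδ₁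
  have h₁ := S₁.chern_push (S.ofModIso eι) (IsPullback.of_horiz_isIso ⟨by rw [Category.comp_id, hι]⟩) hc' hιc
    (S.chern_ofModIso eι hB)
  have e : ∀ c : AlgebraicCycle s.Y ℤ, AlgebraicCycle.map (𝟙 s.Y) s.δ s.δ c = c := fun c => by
    ext x
    exact map_closed_apply (𝟙 s.Y) (δ := s.δ) c x
  simp only [e] at h₁
  -- and on the given bundle
  obtain ⟨A, hA, a, hab, hex⟩ := exists_ses_id ((Scheme.Modules.pullback s.g).obj E)
  exact CycLib.chern_iso hY (FlagLib.rank_pullback s.g E hE) (FlagLib.rank_pullback s.g E hE) hA hex hQ hQs hδQ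
    hP₁ hP₁s hδ₁ h₁

/-- Chern classes exist. -/
theorem exists_chernClasses (hX : Cyc.IsSetup X δX) {r : ℕ} (hE : FlatMod.IsFinLocFreeOfRank r E) :
    ∃ c : (j : ℕ) → Bivar.OpCl (j : ℤ) X δX, Bivar.IsChernClasses E r c := by
  cases r with
  | succ n =>
    obtain ⟨P, p, O1, q, hP, hp⟩ := exists_proper_bundle hE
    haveI := hp
    exact ⟨chernFam hX hE hP, isChernClasses_chernFam hX hE hP⟩
  | zero =>
    refine ⟨fun j => match j with | 0 => Bivar.OpCl.one X δX | _ + 1 => 0, hE, rfl, fun j hj => ?_, ?_⟩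
    · obtain ⟨j, rfl⟩ : ∃ i, j = i + 1 := ⟨j - 1, by omega⟩
      rfl
    intro s Q π OQ qQ hQ δQ hδQ k α hα ζ h0 hζ hc
    haveI := hX.1
    haveI := isEmpty_of_rank_zero (FlagLib.rank_pullback s.g E hE) hQ
    refine ⟨h0, hζ, fun _ _ β _ => ?_⟩
    rw [show β = 0 from DFunLike.ext _ _ fun y => isEmptyElim y]
    exact ratEquivZero_zero

/-- Chern classes are unique. -/
theorem chernClasses_unique (hX : Cyc.IsSetup X δX) {r : ℕ} {c c' : (j : ℕ) → Bivar.OpCl (j : ℤ) X δX}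
    (hc : Bivar.IsChernClasses E r c) (hc' : Bivar.IsChernClasses E r c') : c = c' := by
  obtain ⟨hE, h0, hlarge, hcap⟩ := hc
  obtain ⟨-, h0', hlarge', hcap'⟩ := hc'
  funext j
  by_cases hj : r < j
  · rw [hlarge j hj, hlarge' j hj]
  refine Bivar.OpCl.ext (funext fun s => funext fun k => AddMonoidHom.ext fun a => ?_)
  obtain ⟨α, hα, rfl⟩ := exists_cl a
  haveI := hX.1
  have hY := isSetup_osq hX s
  haveI := hY.1
  obtain ⟨P, p, O1, q, hP, hp⟩ := exists_proper_bundle (FlagLib.rank_pullback s.g E hE)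
  haveI := hp
  obtain ⟨δP, hδP⟩ := exists_delta p s.δ
  choose z hz ez using fun i : Fin (r + 1) => exists_cl ((c i).op s k (ChowOps.cl α hα))
  choose z' hz' ez' using fun i : Fin (r + 1) => exists_cl ((c' i).op s k (ChowOps.cl α hα))
  have key : ∀ (c : (j : ℕ) → Bivar.OpCl (j : ℤ) X δX) (z : Fin (r + 1) → AlgebraicCycle s.Y ℤ)
      (hz : ∀ i : Fin (r + 1), z i ∈ Cyc.Zk s.Y s.δ (k - ((i : ℕ) : ℤ))),
      c 0 = Bivar.OpCl.one X δX → (∀ i, ChowOps.cl (z i) (hz i) = (c i).op s k (ChowOps.cl α hα)) →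
      ∃ ζ : Fin (r + 1) → AlgebraicCycle s.Y ℤ, ζ 0 = α ∧
        ∃ hζ : ∀ i : Fin (r + 1), ζ i ∈ Cyc.Zk s.Y s.δ (k - ((i : ℕ) : ℤ)),
          ∀ i, ChowOps.cl (ζ i) (hζ i) = (c i).op s k (ChowOps.cl α hα) := by
    intro c z hz h0 ez
    refine ⟨Function.update z 0 α, Function.update_self 0 α z, ?_⟩
    have hm : ∀ i : Fin (r + 1), Function.update z 0 α i ∈ Cyc.Zk s.Y s.δ (k - ((i : ℕ) : ℤ)) := fun i => by
      rcases eq_or_ne i 0 with rfl | hi
      · rw [Function.update_self]; simpa using hα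
      · rw [Function.update_of_ne hi]; exact hz i
    refine ⟨hm, fun i => ?_⟩
    rcases eq_or_ne i 0 with rfl | hi
    · show _ = (c 0).op s k _
      rw [h0]
      exact ((Bivar.cl_congr (Function.update_self 0 α z) (hm 0) (by simpa using hα))).trans
        (Bivar.chCast_cl s.Y s.δ (sub_zero k).symm α hα).symm
    · exact (Bivar.cl_congr (Function.update_of_ne hi α z) _ (hz i)).trans (ez i)
  obtain ⟨ζ, hζ0, hζ, eζ⟩ := key c z hz h0 ez
  obtain ⟨ζ', hζ0', hζ', eζ'⟩ := key c' z' hz' h0' ez'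
  have h1 := hcap s P p O1 q hP δP hδP k α hα ζ hζ0 hζ fun i => (eζ i).symm
  have h2 := hcap' s P p O1 q hP δP hδP k α hα ζ' hζ0' hζ' fun i => (eζ' i).symm
  have h3 := CycLib.chern_unique' hY (FlagLib.rank_pullback s.g E hE) hP (CycLib.isSetup_of_lft p hY hδP) hδP
    (ratEquiv_self k α) h1 h2 ⟨j, by omega⟩
  exact (eζ ⟨j, by omega⟩).symm.trans ((cl_eq_of_ratEquiv _ _ h3).trans (eζ' ⟨j, by omega⟩))

end Families

end Groth.Agent.BivarLib
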