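import Groth.Agent.BivarLib.ProperPush
import Groth.Agent.VBundLib.AffInj

/-!
# Cycles and classes on disjoint open covers
-/

set_option autoImplicit false
set_option backward.isDefEq.respectTransparency false
set_option linter.style.haveILetI false

universe u

open CategoryTheory CategoryTheory.Limits AlgebraicGeometry Topology

noncomputable section

namespace Groth.Agent.BivarLib

open CycLib

/-- Open immersions have relative dimension zero. -/
theorem hasRelDim_openImm {X Y : Scheme.{u}} (j : X ⟶ Y) [IsOpenImmersion j] : Cyc.HasRelDim j 0 := fun y T hT => by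
  haveI : Subsingleton ↥(j.fiber y) := by
    refine (j.fiberHomeo y).toEquiv.subsingleton_congr.2 ⟨?_⟩
    rintro ⟨a, ha⟩ ⟨b, hb⟩
    exact Subtype.ext (j.isOpenEmbedding.injective (ha.trans hb.symm))
  obtain ⟨x, hx⟩ := hT.1.1
  haveI : Subsingleton ↥T := ⟨fun a b => Subtype.ext (Subsingleton.elim _ _)⟩
  haveI : Nonempty ↥T := ⟨⟨x, hx⟩⟩
  haveI : Subsingleton (TopologicalSpace.IrreducibleCloseds ↥T) := ⟨fun a b => TopologicalSpace.IrreducibleCloseds.ext (by
    rw [Set.Subsingleton.eq_singleton_of_mem (s := (a : Set ↥T)) (fun p _ q _ => Subsingleton.elim p q) a.isIrreducible.1.some_mem,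
      Set.Subsingleton.eq_singleton_of_mem (s := (b : Set ↥T)) (fun p _ q _ => Subsingleton.elim p q) b.isIrreducible.1.some_mem,
      Subsingleton.elim a.isIrreducible.1.some b.isIrreducible.1.some])⟩
  haveI : Nonempty (TopologicalSpace.IrreducibleCloseds ↥T) :=
    ⟨⟨{⟨x, hx⟩}, isIrreducible_singleton, T1Space.t1 _⟩⟩
  exact Order.krullDim_eq_zero

theorem ratEquivZero_of_mem_ratTriv {X : Scheme.{u}} [IsLocallyNoetherian X] {δ : X → ℤ} (hδ : Cyc.IsDimFun X δ) {k : ℤ}
    {z : ↥(ChowOps.zk X δ k)} (hz : z ∈ ChowOps.ratTriv X δ k) : Cyc.RatEquivZero δ k (z : AlgebraicCycle X ℤ) := by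
  induction hz using AddSubgroup.closure_induction with
  | mem z hz => exact hz
  | zero => exact ratEquivZero_zero
  | add a b _ _ ha hb => exact ratEquivZero_add ha hb
  | neg a _ ha => exact ratEquivZero_neg hδ ha

section Res

variable {X U : Scheme.{u}} (j : U ⟶ X) [IsOpenImmersion j] {δ : X → ℤ} {k : ℤ}

/-- The restriction of a cycle along an open immersion. -/
def openRes (α : AlgebraicCycle X ℤ) : AlgebraicCycle U ℤ where
  toFun z := α (j z)
  supportWithinDomain' := Set.subset_univ _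
  supportLocallyFiniteWithinDomain' z _ := by
    obtain ⟨t, ht, hfin⟩ := α.supportLocallyFiniteWithinDomain' (j z) (Set.mem_univ _)
    refine ⟨j ⁻¹' t, j.continuous.continuousAt.preimage_mem_nhds ht, ?_⟩
    exact (hfin.preimage j.isOpenEmbedding.injective.injOn).subset fun w hw => hw

@[simp] theorem openRes_apply (α : AlgebraicCycle X ℤ) (z : U) : openRes j α z = α (j z) := rfl

theorem coe_openRes (δ : X → ℤ) (α : AlgebraicCycle X ℤ) :
    ⇑(openRes j α) = Cyc.pullFun j (fun z => δ (j z)) δ 0 ⇑α := (VBundLib.pullFun_openImm j δ ⇑α).symm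

theorem mem_Zk_openRes {δU : U → ℤ} (hd : Cyc.DeltaCompat j δU δ) {α : AlgebraicCycle X ℤ} (hα : α ∈ Cyc.Zk X δ k) :
    openRes j α ∈ Cyc.Zk U δU k := by
  obtain rfl := delta_unique hd (CycLib.deltaCompat_preimmersion j δ)
  exact fun z hz => hα (j z) hz

theorem isSetup_open (hX : Cyc.IsSetup X δ) : Cyc.IsSetup U fun z => δ (j z) :=
  CycLib.isSetup_of_lft j hX (CycLib.deltaCompat_preimmersion j δ)

theorem ratEquivZero_openRes {δU : U → ℤ} (hd : Cyc.DeltaCompat j δU δ) (hX : Cyc.IsSetup X δ)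
    {α : AlgebraicCycle X ℤ} (h : Cyc.RatEquivZero δ k α) : Cyc.RatEquivZero δU k (openRes j α) := by
  obtain rfl := delta_unique hd (CycLib.deltaCompat_preimmersion j δ)
  haveI := hX.1
  haveI := (isSetup_open j hX).1
  have h' := ratEquivZero_pull (p := j) (VBundLib.isShift_openImm j δ) (isSetup_open j hX).2.2 hX.2.2 h (openRes j α)
    (coe_openRes j δ α)
  rwa [add_zero] at h'

/-- The restriction of classes along an open immersion. -/
def openCH {δU : U → ℤ} (hd : Cyc.DeltaCompat j δU δ) (hX : Cyc.IsSetup X δ) (k : ℤ) :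
    ChowOps.CH X δ k →+ ChowOps.CH U δU k :=
  descend
    (AddMonoidHom.mk' (fun a => ChowOps.cl (openRes j a.1) (mem_Zk_openRes j hd a.2)) fun a b =>
      (Bivar.cl_congr (DFunLike.ext _ _ fun _ => rfl) _ _).trans
        (Bivar.cl_add _ _ (mem_Zk_openRes j hd a.2) (mem_Zk_openRes j hd b.2)))
    (fun a h => cl_eq_zero _ (ratEquivZero_openRes j hd hX h))

theorem openCH_cl {δU : U → ℤ} (hd : Cyc.DeltaCompat j δU δ) (hX : Cyc.IsSetup X δ) {α : AlgebraicCycle X ℤ}
    (hα : α ∈ Cyc.Zk X δ k) :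
    openCH j hd hX k (ChowOps.cl α hα) = ChowOps.cl (openRes j α) (mem_Zk_openRes j hd hα) := rfl

end Res

section Glue

variable {X : Scheme.{u}} {J : Type u} {U : J → Scheme.{u}} (j : (a : J) → U a ⟶ X) [∀ a, IsOpenImmersion (j a)]
  (hdisj : ∀ a b : J, a ≠ b → Disjoint (Set.range (j a)) (Set.range (j b))) (hcov : ∀ x : X, ∃ a, x ∈ Set.range (j a))

/-- The cycle with given restrictions to a disjoint open cover. -/
def glueCycle (β : (a : J) → AlgebraicCycle (U a) ℤ) : AlgebraicCycle X ℤ where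
  toFun x := β (hcov x).choose (hcov x).choose_spec.choose
  supportWithinDomain' := Set.subset_univ _
  supportLocallyFiniteWithinDomain' x _ := by
    obtain ⟨a, z, rfl⟩ := hcov x
    obtain ⟨t, ht, hfin⟩ := (β a).supportLocallyFiniteWithinDomain' z (Set.mem_univ _)
    refine ⟨j a '' t, (j a).isOpenEmbedding.isOpenMap.image_mem_nhds ht, (hfin.image (j a)).subset ?_⟩
    rintro _ ⟨⟨w, hw, rfl⟩, hne⟩
    refine ⟨w, ⟨hw, ?_⟩, rfl⟩
    intro h0
    refine hne ?_
    have key : ∀ a', a' = a → ∀ w', j a' w' = j a w → β a' w' = 0 := by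
      intro a' ea w' e
      subst ea
      rw [(j a').isOpenEmbedding.injective e]
      exact h0
    refine key _ ?_ _ (hcov (j a w)).choose_spec.choose_spec
    by_contra hne'
    exact Set.disjoint_left.1 (hdisj _ _ hne') (hcov (j a w)).choose_spec ⟨w, rfl⟩

theorem glueCycle_apply (β : (a : J) → AlgebraicCycle (U a) ℤ) (a : J) (z : U a) :
    glueCycle j hdisj hcov β (j a z) = β a z := by
  have key : ∀ a', a' = a → ∀ w', j a' w' = j a z → β a' w' = β a z := by
    intro a' ea w' e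
    subst ea
    rw [(j a').isOpenEmbedding.injective e]
  refine key _ ?_ _ (hcov (j a z)).choose_spec.choose_spec
  by_contra hne'
  exact Set.disjoint_left.1 (hdisj _ _ hne') (hcov (j a z)).choose_spec ⟨z, rfl⟩

variable {δ : X → ℤ} {k : ℤ}

include hdisj hcov in
theorem ratEquivZero_of_openRes (hX : Cyc.IsSetup X δ) {α : AlgebraicCycle X ℤ}
    (h : ∀ a, Cyc.RatEquivZero (fun z => δ (j a z)) k (openRes (j a) α)) : Cyc.RatEquivZero δ k α := by
  haveI := hX.1
  choose ι ξ f hξ hf hfin hsum using h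
  choose g hg using fun (a : J) (i : ι a) => (bijective_residueFieldMap (j a) (ξ a i)).2 (f a i)
  have hgen : ∀ (a b : J) (η : U a) (z : U b), j a η ⤳ j b z → a = b := fun a b η z h => by
    by_contra hne
    exact Set.disjoint_left.1 (hdisj a b hne) ⟨η, rfl⟩ (h.mem_open (j b).isOpenEmbedding.isOpen_range ⟨z, rfl⟩)
  refine ⟨(a : J) × ι a, fun p => j p.1 (ξ p.1 p.2), fun p => g p.1 p.2, fun p => hξ p.1 p.2, ?_, ?_, ?_⟩
  · rintro ⟨a, i⟩ e
    refine hf a i ?_
    rw [← hg a i]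
    exact (congrArg _ e).trans (map_zero _)
  · intro x
    obtain ⟨a, z, rfl⟩ := hcov x
    obtain ⟨W, hW, hzW, hWfin⟩ := hfin a z
    refine ⟨j a '' W, (j a).isOpenEmbedding.isOpenMap _ hW, ⟨z, hzW, rfl⟩, (hWfin.image fun i => (⟨a, i⟩ : (a : J) × ι a)).subset ?_⟩
    rintro ⟨b, i⟩ ⟨_, hy, w, hw, rfl⟩
    have hs : j b (ξ b i) ⤳ j a w := specializes_iff_mem_closure.2 hy
    obtain rfl := hgen b a _ _ hs
    exact ⟨i, ⟨w, specializes_iff_mem_closure.1 ((j b).isOpenEmbedding.isInducing.specializes_iff.1 hs), hw⟩, rfl⟩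
  · intro x
    obtain ⟨a, z, rfl⟩ := hcov x
    have e := hsum a z
    rw [openRes_apply] at e
    let F : (a : J) × ι a → ℤ := fun p => Cyc.divFun δ (j p.1 (ξ p.1 p.2)) (g p.1 p.2) (j a z)
    have h1 : ∀ p, F p ≠ 0 → p ∈ Set.range (Sigma.mk (β := ι) a) := by
      rintro ⟨b, i⟩ hne
      obtain rfl := hgen b a _ _ (specializes_of_divFun_ne_zero hne).1
      exact ⟨i, rfl⟩
    have h2 : ∑ᶠ p, F p = ∑ᶠ i : ι a, F ⟨a, i⟩ := by
      rw [← finsum_mem_range (f := F) (sigma_mk_injective (i := a)), finsum_mem_def]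
      exact (finsum_congr fun p => congrFun (Set.indicator_eq_self.2 fun q hq => h1 q hq) p).symm
    rw [e]
    refine Eq.trans ?_ h2.symm
    refine finsum_congr fun i => ?_
    haveI := (isSetup_open (j a) hX).1
    show _ = Cyc.divFun δ (j a (ξ a i)) (g a i) (j a z)
    rw [← hg a i]
    exact divFun_map (j a) hX.2.2 (isSetup_open (j a) hX).2.2 _ z _

include hdisj hcov in
/-- Classes are detected on a disjoint open cover. -/
theorem openCH_ext (hX : Cyc.IsSetup X δ) {δU : (a : J) → U a → ℤ} (hd : ∀ a, Cyc.DeltaCompat (j a) (δU a) δ)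
    {x y : ChowOps.CH X δ k} (h : ∀ a, openCH (j a) (hd a) hX k x = openCH (j a) (hd a) hX k y) : x = y := by
  obtain rfl : δU = fun a z => δ (j a z) :=
    funext fun a => delta_unique (hd a) (CycLib.deltaCompat_preimmersion (j a) δ)
  obtain ⟨α, hα, rfl⟩ := Bivar.exists_rep x
  obtain ⟨β, hβ, rfl⟩ := Bivar.exists_rep y
  refine cl_eq_of_ratEquiv hα hβ (ratEquivZero_of_openRes j hdisj hcov hX fun a => ?_)
  haveI := (isSetup_open (j a) hX).1
  have h' := h a
  rw [openCH_cl, openCH_cl] at h'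
  have h1 : (⟨openRes (j a) α, mem_Zk_openRes (j a) (hd a) hα⟩ - ⟨openRes (j a) β, mem_Zk_openRes (j a) (hd a) hβ⟩ :
      ↥(ChowOps.zk (U a) (fun z => δ (j a z)) k)) ∈ ChowOps.ratTriv (U a) (fun z => δ (j a z)) k :=
    QuotientAddGroup.eq_iff_sub_mem.1 h'
  rw [show openRes (j a) (α - β) = openRes (j a) α - openRes (j a) β from DFunLike.ext _ _ fun _ => rfl]
  exact ratEquivZero_of_mem_ratTriv (isSetup_open (j a) hX).2.2 h1

/-- Classes glue along a disjoint open cover. -/
theorem exists_openCH (hX : Cyc.IsSetup X δ) {δU : (a : J) → U a → ℤ} (hd : ∀ a, Cyc.DeltaCompat (j a) (δU a) δ)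
    (y : (a : J) → ChowOps.CH (U a) (δU a) k) (hdisj : ∀ a b : J, a ≠ b → Disjoint (Set.range (j a)) (Set.range (j b)))
    (hcov : ∀ x : X, ∃ a, x ∈ Set.range (j a)) : ∃ x, ∀ a, openCH (j a) (hd a) hX k x = y a := by
  obtain rfl : δU = fun a z => δ (j a z) :=
    funext fun a => delta_unique (hd a) (CycLib.deltaCompat_preimmersion (j a) δ)
  choose β hβ e using fun a => Bivar.exists_rep (y a)
  have hm : glueCycle j hdisj hcov β ∈ Cyc.Zk X δ k := fun x hx => by
    obtain ⟨a, z, rfl⟩ := hcov x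
    rw [glueCycle_apply]
    exact hβ a z hx
  refine ⟨ChowOps.cl _ hm, fun a => ?_⟩
  rw [openCH_cl, ← e a]
  exact Bivar.cl_congr (DFunLike.ext _ _ fun z => glueCycle_apply j hdisj hcov β a z) _ _

end Glue

section Op

variable {X Y : Scheme.{u}} {δX : X → ℤ} {δY : Y → ℤ} {f : X ⟶ Y} {p : ℤ}

/-- The operations commute with restriction along open immersions. -/
theorem op_openCH (hX : Cyc.IsSetup X δX) (hY : Cyc.IsSetup Y δY) (c : Bivar.Cl p f δX δY) (s t : Bivar.Sq f δX δY)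
    (h : t.Y' ⟶ s.Y') [IsOpenImmersion h] (h' : t.X' ⟶ s.X') [IsOpenImmersion h'] (w₁ : h ≫ s.g = t.g)
    (w₂ : h' ≫ s.f' = t.f' ≫ h) (w₃ : h' ≫ s.g' = t.g') (hd : Cyc.DeltaCompat h t.δY' s.δY')
    (hd' : Cyc.DeltaCompat h' t.δX' s.δX') (k : ℤ) (a : ChowOps.CH s.Y' s.δY' k) :
    c.op t k (openCH h hd (isSetup_Y' hY s) k a) = openCH h' hd' (isSetup_X' hX s) (k - p) (c.op s k a) := by
  have eY := delta_unique hd (CycLib.deltaCompat_preimmersion h s.δY')
  have eX := delta_unique hd' (CycLib.deltaCompat_preimmersion h' s.δX')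
  obtain ⟨α, hα, rfl⟩ := Bivar.exists_rep a
  obtain ⟨β, hβ, e₁, hβ'⟩ := c.pull s t h h' 0 (hasRelDim_openImm h) (hasRelDim_openImm h') w₁ w₂ w₃ k α hα
  obtain ⟨β₁, hβ₁, ec, e₂⟩ := hβ' (openRes h α) (by rw [eY]; exact coe_openRes h s.δY' α)
    (by rw [Nat.cast_zero, add_zero]; exact mem_Zk_openRes h hd hα)
  have key : ∀ (k' : ℤ) (e : k' = k) (m : openRes h α ∈ Cyc.Zk t.Y' t.δY' k')
      (m' : β₁ ∈ Cyc.Zk t.X' t.δX' (k' - p)), c.op t k' (ChowOps.cl _ m) = ChowOps.cl β₁ m' →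
      c.op t k (ChowOps.cl _ (mem_Zk_openRes h hd hα)) = ChowOps.cl β₁ (e ▸ m') := by
    rintro k' rfl m m' he
    exact he
  rw [openCH_cl, e₁, openCH_cl]
  refine (key (k + ((0 : ℕ) : ℤ)) (by simp) _ hβ₁ e₂).trans (Bivar.cl_congr ?_ _ _)
  refine DFunLike.coe_injective (ec.trans ?_)
  rw [eX]
  exact (coe_openRes h' s.δX' β).symm

end Op

end Groth.Agent.BivarLib
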