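import Groth.Agent.BivarLib.GysinCompat
import Groth.Agent.CycLib.Chern.Pull

/-!
# The bivariant class of flat pullback
-/

set_option autoImplicit false
set_option backward.isDefEq.respectTransparency false
set_option linter.style.haveILetI false

universe u

open CategoryTheory CategoryTheory.Limits AlgebraicGeometry

noncomputable section

namespace Groth.Agent.BivarLib

open CycLib

variable {X Y : Scheme.{u}} {δX : X → ℤ} {δY : Y → ℤ} (hX : Cyc.IsSetup X δX) (hY : Cyc.IsSetup Y δY)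
  {f : X ⟶ Y} [Flat f] [LocallyOfFiniteType f] {r : ℕ} (hr : Cyc.HasRelDim f r) (hδ : Cyc.DeltaCompat f δX δY)

include hX hY hr hδ in
theorem isShift_f' (s : Bivar.Sq f δX δY) : IsShift s.f' s.δX' s.δY' (r : ℤ) :=
  isShift_square s.isPullback hX hY (isSetup_Y' hY s) (isSetup_X' hX s) r hr hδ s.compatY s.compatX

theorem flat_f' (s : Bivar.Sq f δX δY) : Flat s.f' := MorphismProperty.of_isPullback s.isPullback.flip inferInstance

theorem mem_Zk_pull {A B : Scheme.{u}} {q : A ⟶ B} {δA : A → ℤ} {δB : B → ℤ} {k : ℤ} {α : AlgebraicCycle B ℤ}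
    (hα : α ∈ Cyc.Zk B δB k) {β : AlgebraicCycle A ℤ} (hβ : ⇑β = Cyc.pullFun q δA δB (r : ℤ) ⇑α) :
    β ∈ Cyc.Zk A δA (k - -(r : ℤ)) := by
  rw [sub_neg_eq_add]
  exact Bivar.pullFun_mem_Zk q δA δB r k hα β hβ

/-- The operation of flat pullback on a square. -/
def flatOp (s : Bivar.Sq f δX δY) (k : ℤ) : ChowOps.CH s.Y' s.δY' k →+ ChowOps.CH s.X' s.δX' (k - -(r : ℤ)) :=
  haveI := (isSetup_Y' hY s).1
  haveI := (isSetup_X' hX s).1
  haveI := flat_f' s
  descend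
    { toFun := fun a => ChowOps.cl (pullHom (isShift_f' hX hY hr hδ s) (isSetup_X' hX s).2.2 a.1)
        (mem_Zk_pull a.2 rfl)
      map_zero' := Bivar.cl_congr (map_zero (pullHom (isShift_f' hX hY hr hδ s) (isSetup_X' hX s).2.2)) _
        (ChowOps.zk s.X' s.δX' _).zero_mem
      map_add' := fun a b => (Bivar.cl_congr ((pullHom (isShift_f' hX hY hr hδ s) (isSetup_X' hX s).2.2).map_add a.1 b.1)
        _ _).trans (Bivar.cl_add _ _ _ _) }
    (fun a h => cl_eq_zero _ (by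
      rw [sub_neg_eq_add]
      exact ratEquivZero_pull (isShift_f' hX hY hr hδ s) (isSetup_X' hX s).2.2 (isSetup_Y' hY s).2.2 h _ rfl))

theorem flatOp_cl (s : Bivar.Sq f δX δY) {k : ℤ} (α : AlgebraicCycle s.Y' ℤ) (hα : α ∈ Cyc.Zk s.Y' s.δY' k)
    (α₁ : AlgebraicCycle s.X' ℤ) (h : ⇑α₁ = Cyc.pullFun s.f' s.δX' s.δY' (r : ℤ) ⇑α)
    (hα₁ : α₁ ∈ Cyc.Zk s.X' s.δX' (k - -(r : ℤ))) :
    flatOp hX hY hr hδ s k (ChowOps.cl α hα) = ChowOps.cl α₁ hα₁ :=
  haveI := (isSetup_X' hX s).1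
  Bivar.cl_congr (DFunLike.coe_injective h.symm) _ hα₁

/-- The class of flat pullback. -/
def flatClass : Bivar.Cl (-(r : ℤ)) f δX δY where
  op := flatOp hX hY hr hδ
  push s t h _ h' _ w₁ w₂ w₃ k := by
    haveI := (isSetup_Y' hY s).1
    haveI := (isSetup_Y' hY t).1
    haveI := (isSetup_X' hX s).1
    haveI := (isSetup_X' hX t).1
    haveI := flat_f' t
    intro α hα
    have sq : IsPullback t.f' h' h s.f' :=
      (IsPullback.of_right (by rw [w₃, w₁]; exact t.isPullback.flip) w₂ s.isPullback.flip).flip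
    have hd : Cyc.DeltaCompat h t.δY' s.δY' := deltaCompat_of_comp h s.g (by rw [w₁]; exact t.compatY) s.compatY
    have hd' : Cyc.DeltaCompat h' t.δX' s.δX' := deltaCompat_of_comp h' s.g' (by rw [w₃]; exact t.compatX) s.compatX
    let β := pullHom (isShift_f' hX hY hr hδ t) (isSetup_X' hX t).2.2 α
    refine ⟨β, mem_Zk_pull hα rfl, rfl, flatOp_cl hX hY hr hδ s _ _ _ ?_ _⟩
    exact map_pullFun sq (isSetup_X' hX s).2.2 (isSetup_X' hX t).2.2 hd hd' (isShift_f' hX hY hr hδ s)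
      (isShift_f' hX hY hr hδ t) α β rfl
  pull s t h _ h' _ r' hr₁ hr₂ w₁ w₂ w₃ k := by
    haveI := (isSetup_Y' hY s).1
    haveI := (isSetup_Y' hY t).1
    haveI := (isSetup_X' hX s).1
    haveI := (isSetup_X' hX t).1
    haveI := flat_f' s
    haveI := flat_f' t
    haveI : LocallyOfFiniteType (h ≫ s.g) := w₁ ▸ t.lft
    haveI := locallyOfFiniteType_of_comp h s.g
    haveI : LocallyOfFiniteType (h' ≫ s.g') := w₃ ▸ lft_g' t
    haveI := locallyOfFiniteType_of_comp h' s.g'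
    have hd : Cyc.DeltaCompat h t.δY' s.δY' := deltaCompat_of_comp h s.g (by rw [w₁]; exact t.compatY) s.compatY
    have hd' : Cyc.DeltaCompat h' t.δX' s.δX' := deltaCompat_of_comp h' s.g' (by rw [w₃]; exact t.compatX) s.compatX
    have hsh : IsShift h t.δY' s.δY' (r' : ℤ) := IsShift.of_relDim (isSetup_Y' hY t) (isSetup_Y' hY s) r' hr₁ hd
    have hsh' : IsShift h' t.δX' s.δX' (r' : ℤ) := IsShift.of_relDim (isSetup_X' hX t) (isSetup_X' hX s) r' hr₂ hd'
    intro α hα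
    let β := pullHom (isShift_f' hX hY hr hδ s) (isSetup_X' hX s).2.2 α
    refine ⟨β, mem_Zk_pull hα rfl, rfl, fun α₁ hc hα₁ => ?_⟩
    let β₁ := pullHom hsh' (isSetup_X' hX t).2.2 β
    have hcoe : ⇑β₁ = Cyc.pullFun t.f' t.δX' t.δY' (r : ℤ) ⇑α₁ := by
      show Cyc.pullFun h' t.δX' s.δX' (r' : ℤ) (Cyc.pullFun s.f' s.δX' s.δY' (r : ℤ) ⇑α) = _
      rw [hc, ← pullFun_comp (isShift_f' hX hY hr hδ s) hsh' (isSetup_X' hX s).2.2 (isSetup_X' hX t).2.2,
        ← pullFun_comp hsh (isShift_f' hX hY hr hδ t) (isSetup_Y' hY t).2.2 (isSetup_X' hX t).2.2,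
        w₂, add_comm (r : ℤ)]
    exact ⟨β₁, mem_Zk_pull hα₁ hcoe, rfl, flatOp_cl hX hY hr hδ t α₁ hα₁ β₁ hcoe _⟩
  gysin s t i _ j _ w₁ w₂ w₃ L hL σ hσ τ hτ k := by
    haveI := (isSetup_Y' hY s).1
    haveI := (isSetup_Y' hY t).1
    haveI := (isSetup_X' hX s).1
    haveI := (isSetup_X' hX t).1
    haveI := flat_f' s
    have sq : IsPullback j t.f' s.f' i :=
      IsPullback.of_right (by rw [w₃, w₁]; exact t.isPullback.flip) w₂ s.isPullback.flip
    have hdi : Cyc.DeltaCompat i t.δY' s.δY' := deltaCompat_of_comp i s.g (by rw [w₁]; exact t.compatY) s.compatY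
    have hdj : Cyc.DeltaCompat j t.δX' s.δX' := deltaCompat_of_comp j s.g' (by rw [w₃]; exact t.compatX) s.compatX
    intro α hα
    let β := pullHom (isShift_f' hX hY hr hδ s) (isSetup_X' hX s).2.2 α
    have hβ : β ∈ Cyc.Zk s.X' s.δX' (k - -(r : ℤ)) := mem_Zk_pull hα rfl
    refine ⟨β, hβ, rfl, fun w hw γ hγ hγk w' hw' => ?_⟩
    have hL' := AmpleLib.isInvertible_pullback s.f' hL
    let ζ := restrictCycle j (c1Cycle (isSetup_X' hX s).2.2 hL' β (Cyc.gysinChoice _ τ w'))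
    have hζ : ζ ∈ Cyc.Zk t.X' t.δX' (k - -(r : ℤ) - 1) := mem_Zk_gysin j hdj hβ fun _ => rfl
    have e : k - -(r : ℤ) - 1 = k - 1 - -(r : ℤ) := by ring
    refine ⟨ζ, e ▸ hζ, fun _ => rfl, ?_⟩
    let γ₁ := pullHom (isShift_f' hX hY hr hδ t) (isSetup_X' hX t).2.2 γ
    have hγ₁ : γ₁ ∈ Cyc.Zk t.X' t.δX' (k - 1 - -(r : ℤ)) := mem_Zk_pull hγk rfl
    refine (flatOp_cl hX hY hr hδ t γ hγk γ₁ rfl hγ₁).trans ?_
    have h1 : gysinCH (isSetup_X' hX s) j hdj hL' τ hτ hw' (k - -(r : ℤ)) (ChowOps.cl β hβ) =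
        ChowOps.cl γ₁ (e.symm ▸ hγ₁) := by
      refine gysinCH_pullFib (w := w) sq (isSetup_X' hX s) inferInstance hL hσ hw hdj hL' (Iso.refl _) τ hτ hw' β hβ γ₁
        (fun z => ?_) _
      show Cyc.pullFun t.f' t.δX' t.δY' (r : ℤ) ⇑γ z = _
      refine Eq.trans ?_ (congrFun (pullFun_c1Cap (isShift_f' hX hY hr hδ s) (isSetup_X' hX s).2.2
        (isSetup_Y' hY s).2.2 hL _ (gysinChoice_ne_zero hw) α) (j z))
      rw [pullFun_square sq hσ (r : ℤ) _ z, delta_unique hdi (CycLib.deltaCompat_preimmersion i s.δY'),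
        delta_unique hdj (CycLib.deltaCompat_preimmersion j s.δX'), funext hγ]
    rw [gysinCH_cl _ _ _ _ _ _ _ β hβ ζ (fun _ => rfl) hζ] at h1
    have h2 := congrArg (Bivar.chCast t.X' t.δX' e) h1
    rw [Bivar.chCast_cl, Bivar.chCast_cl] at h2
    exact h2.symm

end Groth.Agent.BivarLib
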