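import Groth.Agent.BivarLib.GysinCompat

/-!
# The bivariant Gysin class of a zero scheme
-/

set_option autoImplicit false
set_option backward.isDefEq.respectTransparency false
set_option linter.style.haveILetI false

universe u

open CategoryTheory CategoryTheory.Limits AlgebraicGeometry

noncomputable section

namespace Groth.Agent.BivarLib

open CycLib

variable {X D : Scheme.{u}} {δX : X → ℤ} {δD : D → ℤ} (hX : Cyc.IsSetup X δX) (hD : Cyc.IsSetup D δD)
  {i : D ⟶ X} [IsClosedImmersion i] (hδ : Cyc.DeltaCompat i δD δX) {L : X.Modules} (hL : PicF.IsInvertible L)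
  {σ : L.presheaf.obj (Opposite.op ⊤)} (hσ : Cyc.IsZeroSchemeOf i L σ)

theorem isClosedImmersion_f' (s : Bivar.Sq i δD δX) : IsClosedImmersion s.f' :=
  MorphismProperty.of_isPullback s.isPullback.flip inferInstance

include hδ in
theorem deltaCompat_f' (s : Bivar.Sq i δD δX) : Cyc.DeltaCompat s.f' s.δX' s.δY' := by
  haveI := isClosedImmersion_f' s
  exact deltaCompat_of_comp s.f' s.g (by rw [s.isPullback.w]; exact Bivar.deltaCompat_comp s.g' i _ _ _ s.compatX hδ)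
    s.compatY

theorem inv_Ls (hL : PicF.IsInvertible L) (s : Bivar.Sq i δD δX) :
    PicF.IsInvertible ((Scheme.Modules.pullback s.g).obj L) := AmpleLib.isInvertible_pullback s.g hL

include hL hσ in
theorem zero_s (s : Bivar.Sq i δD δX) :
    Cyc.IsZeroSchemeOf s.f' ((Scheme.Modules.pullback s.g).obj L) (pullSec s.g L σ) :=
  isZeroSchemeOf_of_isPullback s.g hL hσ s.isPullback

/-- The operation of the Gysin class on a square. -/
def gysinOp (s : Bivar.Sq i δD δX) (k : ℤ) : ChowOps.CH s.Y' s.δY' k →+ ChowOps.CH s.X' s.δX' (k - 1) :=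
  haveI := isClosedImmersion_f' s
  gysinCH (isSetup_Y' hX s) s.f' (deltaCompat_f' hδ s) (inv_Ls hL s) (pullSec s.g L σ) (zero_s hL hσ s)
    (secs_ne_zero (inv_Ls hL s)) k

/-- The value of the operation, with any section and fallback. -/
theorem gysinOp_cl (s : Bivar.Sq i δD δX) {k : ℤ} (τ : ((Scheme.Modules.pullback s.g).obj L).presheaf.obj (Opposite.op ⊤))
    (hτ : Cyc.IsZeroSchemeOf s.f' ((Scheme.Modules.pullback s.g).obj L) τ)
    {w : (ξ : s.Y') → Cyc.secFibre ((Scheme.Modules.pullback s.g).obj L) ξ} (hw : ∀ ξ, w ξ ≠ 0)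
    (α : AlgebraicCycle s.Y' ℤ) (hα : α ∈ Cyc.Zk s.Y' s.δY' k) (γ : AlgebraicCycle s.X' ℤ)
    (hγ : ∀ d, γ d = Cyc.c1CapFun s.δY' ((Scheme.Modules.pullback s.g).obj L) ⇑α
      (Cyc.gysinChoice ((Scheme.Modules.pullback s.g).obj L) τ w) (s.f' d))
    (hγk : γ ∈ Cyc.Zk s.X' s.δX' (k - 1)) : gysinOp hX hδ hL hσ s k (ChowOps.cl α hα) = ChowOps.cl γ hγk := by
  haveI := isClosedImmersion_f' s
  haveI := (isSetup_Y' hX s).1
  have hdP := deltaCompat_f' hδ s
  have hLs := inv_Ls hL s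
  let γ₀ := restrictCycle s.f' (c1Cycle (isSetup_Y' hX s).2.2 hLs α
    fun ξ => pullFib s.g L ξ (Cyc.gysinChoice L σ (secs hL) (s.g ξ)))
  have hγ₀ : γ₀ ∈ Cyc.Zk s.X' s.δX' (k - 1) := mem_Zk_gysin s.f' hdP hα fun _ => rfl
  refine (gysinCH_pullFib (w := secs hL) s.isPullback (isSetup_Y' hX s) hX.1 hL hσ (secs_ne_zero hL) hdP hLs (Iso.refl _)
    (pullSec s.g L σ) (zero_s hL hσ s) (secs_ne_zero hLs) α hα γ₀ (fun _ => rfl) hγ₀).trans ?_
  rw [← gysinCH_pullFib (w := secs hL) s.isPullback (isSetup_Y' hX s) hX.1 hL hσ (secs_ne_zero hL) hdP hLs (Iso.refl _)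
    τ hτ hw α hα γ₀ (fun _ => rfl) hγ₀]
  exact gysinCH_cl _ _ _ _ _ _ _ α hα γ hγ hγk

/-- The Gysin class. -/
def gysinClass : Bivar.Cl 1 i δD δX where
  op := gysinOp hX hδ hL hσ
  push s t h _ h' _ w₁ w₂ w₃ k := by
    haveI := isClosedImmersion_f' s
    haveI := isClosedImmersion_f' t
    haveI := (isSetup_Y' hX s).1
    haveI := (isSetup_Y' hX t).1
    intro α hα
    have hLs := inv_Ls hL s
    have hLh := AmpleLib.isInvertible_pullback h hLs
    have sq : IsPullback t.f' h' h s.f' :=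
      (IsPullback.of_right (by rw [w₃, w₁]; exact t.isPullback.flip) w₂ s.isPullback.flip).flip
    have hd : Cyc.DeltaCompat h t.δY' s.δY' := deltaCompat_of_comp h s.g (by rw [w₁]; exact t.compatY) s.compatY
    let v : (η : t.Y') → Cyc.secFibre ((Scheme.Modules.pullback h).obj ((Scheme.Modules.pullback s.g).obj L)) η := fun η =>
      pullFib h _ η (Cyc.gysinChoice _ (pullSec s.g L σ) (secs hLs) (h η))
    let Γ := c1Cycle (isSetup_Y' hX t).2.2 hLh α v
    let β := restrictCycle t.f' Γ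
    have hβ : β ∈ Cyc.Zk t.X' t.δX' (k - 1) := mem_Zk_gysin t.f' (deltaCompat_f' hδ t) hα fun _ => rfl
    refine ⟨β, hβ, gysinCH_pullFib sq (isSetup_Y' hX t) inferInstance hLs (zero_s hL hσ s) (secs_ne_zero hLs)
      (deltaCompat_f' hδ t) (inv_Ls hL t) (pullOverIso h s.g t.g w₁ L) (pullSec t.g L σ) (zero_s hL hσ t)
      (secs_ne_zero (inv_Ls hL t)) α hα β (fun _ => rfl) hβ, ?_⟩
    refine gysinCH_cl _ _ _ _ _ _ _ _ _ _ (fun d => ?_) _
    have hsupp : ∀ x, Γ x ≠ 0 → x ∈ Set.range t.f' := fun x hx => by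
      obtain ⟨ξ, hξ⟩ := exists_ne_zero_finsum hx
      exact mem_range_square sq
        (mem_range_pull h (isSetup_Y' hX t).2.2 hLs (zero_s hL hσ s) (right_ne_zero_of_mul hξ))
    rw [delta_unique (deltaCompat_f' hδ t) (CycLib.deltaCompat_preimmersion t.f' t.δY'),
      delta_unique (deltaCompat_f' hδ s) (CycLib.deltaCompat_preimmersion s.f' s.δY'), map_restrictCycle sq Γ hsupp d]
    exact map_c1Cap_pullFib h (isSetup_Y' hX t) (isSetup_Y' hX s) hd hLs α _
      (gysinChoice_ne_zero (secs_ne_zero hLs)) Γ (fun _ => rfl) _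
  pull s t h _ h' _ r hr hr' w₁ w₂ w₃ k := by
    haveI := isClosedImmersion_f' s
    haveI := isClosedImmersion_f' t
    haveI := (isSetup_Y' hX s).1
    haveI := (isSetup_Y' hX t).1
    haveI := (isSetup_X' hD s).1
    haveI := (isSetup_X' hD t).1
    haveI : LocallyOfFiniteType (h ≫ s.g) := w₁ ▸ t.lft
    haveI := locallyOfFiniteType_of_comp h s.g
    have sq : IsPullback t.f' h' h s.f' :=
      (IsPullback.of_right (by rw [w₃, w₁]; exact t.isPullback.flip) w₂ s.isPullback.flip).flip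
    haveI : LocallyOfFiniteType h' := MorphismProperty.of_isPullback sq inferInstance
    have hd : Cyc.DeltaCompat h t.δY' s.δY' := deltaCompat_of_comp h s.g (by rw [w₁]; exact t.compatY) s.compatY
    have hd' : Cyc.DeltaCompat h' t.δX' s.δX' := deltaCompat_of_comp h' s.g' (by rw [w₃]; exact t.compatX) s.compatX
    have hsh : IsShift h t.δY' s.δY' (r : ℤ) := IsShift.of_relDim (isSetup_Y' hX t) (isSetup_Y' hX s) r hr hd
    have hsh' : IsShift h' t.δX' s.δX' (r : ℤ) := IsShift.of_relDim (isSetup_X' hD t) (isSetup_X' hD s) r hr' hd'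
    intro α hα
    have hLs := inv_Ls hL s
    let β := restrictCycle s.f' (c1Cycle (isSetup_Y' hX s).2.2 hLs α (Cyc.gysinChoice _ (pullSec s.g L σ) (secs hLs)))
    refine ⟨β, mem_Zk_gysin s.f' (deltaCompat_f' hδ s) hα fun _ => rfl, rfl, fun α₁ hc hα₁ => ?_⟩
    let β₁ := pullCycle hsh' (isSetup_X' hD t).2.2 β
    have hcoe : ∀ z, β₁ z = Cyc.c1CapFun t.δY' ((Scheme.Modules.pullback h).obj ((Scheme.Modules.pullback s.g).obj L))
        ⇑α₁ (fun η => pullFib h _ η (Cyc.gysinChoice _ (pullSec s.g L σ) (secs hLs) (h η))) (t.f' z) := fun z => by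
      show Cyc.pullFun h' t.δX' s.δX' r ⇑β z = _
      rw [hc]
      refine Eq.trans ?_ (congrFun (pullFun_c1Cap hsh (isSetup_Y' hX t).2.2 (isSetup_Y' hX s).2.2 hLs _
        (gysinChoice_ne_zero (secs_ne_zero hLs)) α) (t.f' z))
      rw [pullFun_square sq (zero_s hL hσ s) r _ z, delta_unique (deltaCompat_f' hδ t) (CycLib.deltaCompat_preimmersion t.f' t.δY'),
        delta_unique (deltaCompat_f' hδ s) (CycLib.deltaCompat_preimmersion s.f' s.δY')]
      rfl
    have hβ₁ : β₁ ∈ Cyc.Zk t.X' t.δX' (k + r - 1) := mem_Zk_gysin t.f' (deltaCompat_f' hδ t) hα₁ hcoe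
    exact ⟨β₁, hβ₁, rfl, gysinCH_pullFib sq (isSetup_Y' hX t) inferInstance hLs (zero_s hL hσ s) (secs_ne_zero hLs)
      (deltaCompat_f' hδ t) (inv_Ls hL t) (pullOverIso h s.g t.g w₁ L) (pullSec t.g L σ) (zero_s hL hσ t)
      (secs_ne_zero (inv_Ls hL t)) α₁ hα₁ β₁ hcoe hβ₁⟩
  gysin s t i' _ j' _ w₁ w₂ w₃ L' hL' σ' hσ' τ' hτ' k := by
    haveI := isClosedImmersion_f' s
    haveI := isClosedImmersion_f' t
    haveI := (isSetup_Y' hX s).1
    haveI := (isSetup_Y' hX t).1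
    haveI := (isSetup_X' hD s).1
    haveI := (isSetup_X' hD t).1
    have sq : IsPullback t.f' j' i' s.f' :=
      (IsPullback.of_right (by rw [w₃, w₁]; exact t.isPullback.flip) w₂ s.isPullback.flip).flip
    have hdi : Cyc.DeltaCompat i' t.δY' s.δY' := deltaCompat_of_comp i' s.g (by rw [w₁]; exact t.compatY) s.compatY
    have hdj : Cyc.DeltaCompat j' t.δX' s.δX' := deltaCompat_of_comp j' s.g' (by rw [w₃]; exact t.compatX) s.compatX
    have e₁ := delta_unique hdi (CycLib.deltaCompat_preimmersion i' s.δY')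
    have e₂ := delta_unique (deltaCompat_f' hδ s) (CycLib.deltaCompat_preimmersion s.f' s.δY')
    have e₃ := delta_unique (deltaCompat_f' hδ t) (CycLib.deltaCompat_preimmersion t.f' t.δY')
    intro α hα
    have hLs := inv_Ls hL s
    have hg := gysinChoice_ne_zero (s := pullSec s.g L σ) (secs_ne_zero hLs)
    let A := c1Cycle (isSetup_Y' hX s).2.2 hLs α (Cyc.gysinChoice _ (pullSec s.g L σ) (secs hLs))
    let β := restrictCycle s.f' A
    have hβ : β ∈ Cyc.Zk s.X' s.δX' (k - 1) := mem_Zk_gysin s.f' (deltaCompat_f' hδ s) hα fun _ => rfl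
    refine ⟨β, hβ, rfl, fun w hw γ hγ hγk w' hw' => ?_⟩
    let A' := c1Cycle (isSetup_Y' hX s).2.2 hL' α (Cyc.gysinChoice L' σ' w)
    have hA : ∀ x, A x ≠ 0 → x ∈ Set.range s.f' := fun x hx => by
      obtain ⟨ξ, hξ⟩ := exists_ne_zero_finsum hx
      exact mem_range_of_gysin (isSetup_Y' hX s).2.2 hLs (zero_s hL hσ s) (right_ne_zero_of_mul hξ)
    have hA' : ∀ x, A' x ≠ 0 → x ∈ Set.range i' := fun x hx => by
      obtain ⟨ξ, hξ⟩ := exists_ne_zero_finsum hx
      exact mem_range_of_gysin (isSetup_Y' hX s).2.2 hL' hσ' (right_ne_zero_of_mul hξ)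
    -- first the class, then the given section
    have hL'' := AmpleLib.isInvertible_pullback s.f' hL'
    let ζ := restrictCycle j' (c1Cycle (isSetup_X' hD s).2.2 hL'' β (Cyc.gysinChoice _ τ' w'))
    have hζ : ζ ∈ Cyc.Zk t.X' t.δX' (k - 1 - 1) := mem_Zk_gysin j' hdj hβ fun _ => rfl
    refine ⟨ζ, hζ, fun _ => rfl, ?_⟩
    let C₁ := restrictCycle (t.f' ≫ i') (c1Cycle (isSetup_Y' hX s).2.2 hL' A (Cyc.gysinChoice L' σ' w))
    let C₂ := restrictCycle (t.f' ≫ i') (c1Cycle (isSetup_Y' hX s).2.2 hLs A'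
      (Cyc.gysinChoice _ (pullSec s.g L σ) (secs hLs)))
    have hd₁ : Cyc.DeltaCompat (t.f' ≫ i') t.δX' s.δY' :=
      Bivar.deltaCompat_comp t.f' i' _ _ _ (deltaCompat_f' hδ t) hdi
    have hC₁ : C₁ ∈ Cyc.Zk t.X' t.δX' (k - 1 - 1) :=
      mem_Zk_gysin (t.f' ≫ i') hd₁ (fun ξ hξ => mem_Zk_c1 (γ := A) hα rfl ξ hξ) fun _ => rfl
    have hC₂ : C₂ ∈ Cyc.Zk t.X' t.δX' (k - 1 - 1) :=
      mem_Zk_gysin (t.f' ≫ i') hd₁ (fun ξ hξ => mem_Zk_c1 (γ := A') hα rfl ξ hξ) fun _ => rfl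
    have hζC : ChowOps.cl C₁ hC₁ = ChowOps.cl ζ hζ := by
      refine (gysinCH_pullFib (w := w) (h := s.f') (i := i') (j := j') (g := t.f') sq.flip (isSetup_X' hD s)
        inferInstance hL' hσ' hw hdj hL'' (Iso.refl _) τ' hτ' hw' β hβ C₁ (fun z => ?_) hC₁).symm.trans
        (gysinCH_cl _ _ _ _ _ _ _ β hβ ζ (fun _ => rfl) hζ)
      show Cyc.c1CapFun s.δY' L' ⇑A _ ((t.f' ≫ i') z) = _
      rw [← w₂, Scheme.Hom.comp_apply, c1CapFun_closed s.f' (isSetup_Y' hX s).2.2 hL' (⇑A) hA, ← e₂]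
      rfl
    have hγC : gysinOp hX hδ hL hσ t (k - 1) (ChowOps.cl γ hγk) = ChowOps.cl C₂ hC₂ := by
      refine gysinCH_pullFib sq (isSetup_Y' hX t) inferInstance hLs (zero_s hL hσ s) (secs_ne_zero hLs)
        (deltaCompat_f' hδ t) (inv_Ls hL t) (pullOverIso i' s.g t.g w₁ L) (pullSec t.g L σ) (zero_s hL hσ t)
        (secs_ne_zero (inv_Ls hL t)) γ hγk C₂ (fun z => ?_) hC₂
      show Cyc.c1CapFun s.δY' _ ⇑A' _ ((t.f' ≫ i') z) = _
      rw [Scheme.Hom.comp_apply, c1CapFun_closed i' (isSetup_Y' hX s).2.2 hLs (⇑A') hA', ← e₁, funext hγ]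
      rfl
    rw [hγC, ← hζC]
    refine (cl_eq_of_ratEquiv hC₁ hC₂ ?_).symm
    rw [delta_unique hd₁ (CycLib.deltaCompat_preimmersion (t.f' ≫ i') s.δY')]
    refine gysin_comm (isSetup_Y' hX s) hLs hL' (zero_s hL hσ s) hσ' (t.f' ≫ i') (fun x hx hx' => ?_)
      (k := k - 1 - 1) (α := α) (by rw [show k - 1 - 1 + 2 = k by ring]; exact hα) (secs_ne_zero hLs) hw C₁ C₂
      (fun _ => rfl) (fun _ => rfl)
    obtain ⟨d, rfl⟩ := hx'
    obtain ⟨z, rfl⟩ := mem_range_square sq hx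
    exact ⟨z, rfl⟩

end Groth.Agent.BivarLib
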