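import Groth.Agent.BivarLib.Gysin
import Groth.Agent.BivarLib.C1Class
import Groth.Agent.CycLib.GysinPull

/-!
# Gysin maps in cartesian squares
-/

set_option autoImplicit false
set_option backward.isDefEq.respectTransparency false
set_option linter.style.haveILetI false

universe u

open CategoryTheory CategoryTheory.Limits AlgebraicGeometry

noncomputable section

namespace Groth.Agent.BivarLib

open CycLib

section Iso

variable {X D : Scheme.{u}} {M M' : X.Modules} (hM : PicF.IsInvertible M) (e : M ≅ M')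
  (s : M.presheaf.obj (Opposite.op ⊤))

theorem germ_mapSec (x : X) :
    M'.presheaf.germ ⊤ x trivial (e.hom.app ⊤ s) = PullbackMod.stalkLin e.hom x (M.presheaf.germ ⊤ x trivial s) :=
  (PullbackMod.stalkLin_germ e.hom (U := ⊤) x trivial s).symm

include hM in
theorem fibMap_germ_eq_zero_iff (x : X) :
    mkF M' x (M'.presheaf.germ ⊤ x trivial (e.hom.app ⊤ s)) = 0 ↔ mkF M x (M.presheaf.germ ⊤ x trivial s) = 0 := by
  rw [germ_mapSec, ← fibMap_mkF]
  refine ⟨fun h => by_contra fun h' => fibMap_ne_zero hM e h' h, fun h => ?_⟩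
  rw [h, map_zero]

include hM in
/-- Zero schemes are invariant under isomorphisms of modules. -/
theorem isZeroSchemeOf_mapSec {i : D ⟶ X} (h : Cyc.IsZeroSchemeOf i M s) :
    Cyc.IsZeroSchemeOf i M' (e.hom.app ⊤ s) := by
  refine ⟨h.1.trans (Set.ext fun x => (fibMap_germ_eq_zero_iff hM e s x).symm), fun d => ?_⟩
  obtain ⟨t, b, ht, hb, hker⟩ := h.2 d
  refine ⟨PullbackMod.stalkLin e.hom (i d) t, b, ?_, ?_, hker⟩
  · rw [← Set.image_singleton, ← Submodule.map_span, ht, Submodule.map_top,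
      LinearMap.range_eq_top.2 (PB.bijective_stalkLin e (i d)).2]
  · exact (germ_mapSec e s (i d)).trans ((congrArg _ hb).trans (LinearMap.map_smul _ b t))

include hM in
theorem gysinChoice_mapSec (w : (ξ : X) → Cyc.secFibre M ξ) (x : X) :
    Cyc.gysinChoice M' (e.hom.app ⊤ s) (fun η => fibMap e.hom η (w η)) x = fibMap e.hom x (Cyc.gysinChoice M s w x) := by
  unfold Cyc.gysinChoice
  by_cases h : mkF M x (M.presheaf.germ ⊤ x trivial s) = 0
  · rw [if_neg (not_not.2 h), if_neg (not_not.2 ((fibMap_germ_eq_zero_iff hM e s x).2 h))]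
  · rw [if_pos h, if_pos (fun h' => h ((fibMap_germ_eq_zero_iff hM e s x).1 h'))]
    show mkF M' x (M'.presheaf.germ ⊤ x trivial (e.hom.app ⊤ s)) = fibMap e.hom x (mkF M x (M.presheaf.germ ⊤ x trivial s))
    rw [germ_mapSec, ← fibMap_mkF]

end Iso

section Square

variable {S T D P : Scheme.{u}} {h : T ⟶ S} {i : D ⟶ S} [IsClosedImmersion i] {j : P ⟶ T} [IsClosedImmersion j]
  {g : P ⟶ D} (sq : IsPullback j g h i)

section Classes

variable {δT : T → ℤ} {δP : P → ℤ} (hT : Cyc.IsSetup T δT) (hS : IsLocallyNoetherian S) {L : S.Modules}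
  (hL : PicF.IsInvertible L) {σ : L.presheaf.obj (Opposite.op ⊤)} (hσ : Cyc.IsZeroSchemeOf i L σ)
  {w : (ξ : S) → Cyc.secFibre L ξ} (hw : ∀ ξ, w ξ ≠ 0) (hdP : Cyc.DeltaCompat j δP δT) {M : T.Modules}
  (hM : PicF.IsInvertible M) (e : (Scheme.Modules.pullback h).obj L ≅ M) (τ : M.presheaf.obj (Opposite.op ⊤))
  (hτ : Cyc.IsZeroSchemeOf j M τ) {v : (ξ : T) → Cyc.secFibre M ξ} (hv : ∀ ξ, v ξ ≠ 0)

include sq hT hS hL hσ hw hdP hM e hτ hv in
/-- The Gysin map of a base change is computed by pulled back sections. -/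
theorem gysinCH_pullFib {k : ℤ} (α : AlgebraicCycle T ℤ) (hα : α ∈ Cyc.Zk T δT k) (γ : AlgebraicCycle P ℤ)
    (hγ : ∀ z, γ z = Cyc.c1CapFun δT ((Scheme.Modules.pullback h).obj L) ⇑α
      (fun ξ => pullFib h L ξ (Cyc.gysinChoice L σ w (h ξ))) (j z))
    (hγk : γ ∈ Cyc.Zk P δP (k - 1)) :
    gysinCH hT j hdP hM τ hτ hv k (ChowOps.cl α hα) = ChowOps.cl γ hγk := by
  haveI := hS
  haveI := hT.1
  obtain rfl := delta_unique hdP (deltaCompat_preimmersion j δT)
  let γ' := restrictCycle j (c1Cycle hT.2.2 hM α (Cyc.gysinChoice M τ v))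
  rw [gysinCH_cl hT j hdP hM τ hτ hv α hα γ' (fun _ => rfl) (mem_Zk_gysin j hdP hα fun _ => rfl)]
  refine cl_eq_of_ratEquiv _ _ (ratEquiv_gysin_pull (w := w) (s := σ) h hT.2.2 (k := k - 1) hL hσ j sq.isoPullback
    sq.isoPullback_hom_fst (s' := e.inv.app ⊤ τ) (isZeroSchemeOf_mapSec hM e.symm τ hτ) hw
    (fun ξ => fibMap e.inv ξ (v ξ)) (fun ξ => fibMap_ne_zero hM e.symm (hv ξ)) α (by simpa using hα) γ γ' hγ fun z => ?_)
  show Cyc.c1CapFun δT M ⇑α (Cyc.gysinChoice M τ v) (j z) = _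
  rw [← congrFun (c1CapFun_iso hT.2.2 hM e.symm ⇑α (Cyc.gysinChoice M τ v)) (j z)]
  exact congrArg (fun s => Cyc.c1CapFun δT _ ⇑α s (j z)) (funext fun ξ => (gysinChoice_mapSec hM e.symm τ v ξ).symm)

end Classes

include sq in
theorem apply_square (z : P) : h (j z) = i (g z) := by
  rw [← Scheme.Hom.comp_apply, sq.w, Scheme.Hom.comp_apply]

include sq in
theorem mem_range_square {x : T} (hx : h x ∈ Set.range i) : x ∈ Set.range j := by
  obtain ⟨d, hd⟩ := hx
  obtain ⟨z, hz, -⟩ := Scheme.exists_preimage_of_isPullback sq x d hd.symm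
  exact ⟨z, hz⟩

include sq in
/-- Push forward commutes with restriction to closed subschemes. -/
theorem map_restrictCycle [IsProper h] [IsProper g] {δT : T → ℤ} {δS : S → ℤ} (γ : AlgebraicCycle T ℤ)
    (hγ : ∀ x, γ x ≠ 0 → x ∈ Set.range j) (d : D) :
    AlgebraicCycle.map g (fun z => δT (j z)) (fun d => δS (i d)) (restrictCycle j γ) d =
      AlgebraicCycle.map h δT δS γ (i d) := by
  classical
  let W := (finite_window g (restrictCycle j γ) d).toFinset
  rw [map_apply_eq_sum _ _ d W fun z hz h => (finite_window _ _ d).mem_toFinset.2 ⟨hz, h⟩,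
    map_apply_eq_sum h γ (i d) (W.image j) fun x hx hne => by
      obtain ⟨z, rfl⟩ := hγ x hne
      exact Finset.mem_image_of_mem _ ((finite_window _ _ d).mem_toFinset.2
        ⟨i.isEmbedding.injective ((apply_square sq z).symm.trans hx), hne⟩),
    Finset.sum_image j.isEmbedding.injective.injOn]
  refine Finset.sum_congr rfl fun z _ => ?_
  by_cases hz : g z = d
  · rw [Set.indicator_of_mem (show z ∈ g ⁻¹' {d} from hz),
      Set.indicator_of_mem (show j z ∈ h ⁻¹' {i d} from (apply_square sq z).trans (congrArg i hz)),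
      mapCoeff_square (δX := δT) (δY := δS) sq.w.symm z]
    rfl
  · rw [Set.indicator_of_notMem (show z ∉ g ⁻¹' {d} from hz),
      Set.indicator_of_notMem (show j z ∉ h ⁻¹' {i d} from
        fun hh => hz (i.isEmbedding.injective ((apply_square sq z).symm.trans hh)))]

theorem map_maximalIdeal_of_surjective {R R' : Type u} [CommRing R] [CommRing R'] [IsLocalRing R] [IsLocalRing R']
    (φ : R →+* R') (hφ : Function.Surjective φ) :
    (IsLocalRing.maximalIdeal R).map φ = IsLocalRing.maximalIdeal R' := by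
  haveI := hφ.isLocalHom φ
  rw [← IsLocalRing.maximalIdeal_comap φ, Ideal.map_comap_of_surjective φ hφ]

theorem length_quot_map {R R' : Type u} [CommRing R] [CommRing R'] (φ : R →+* R') (hφ : Function.Surjective φ)
    {I : Ideal R} (hI : RingHom.ker φ ≤ I) : Module.length R (R ⧸ I) = Module.length R' (R' ⧸ I.map φ) := by
  letI := φ.toAlgebra
  let g : R →ₗ[R] R' ⧸ I.map φ := ((Submodule.mkQ (I.map φ)).restrictScalars R).comp (Algebra.linearMap R R')
  have hg : LinearMap.ker g = I := by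
    ext a
    show Submodule.Quotient.mk (φ a) = (0 : R' ⧸ I.map φ) ↔ _
    rw [Submodule.Quotient.mk_eq_zero]
    show a ∈ (I.map φ).comap φ ↔ _
    rw [Ideal.comap_map_of_surjective' _ hφ, sup_eq_left.2 hI]
  have hs : Function.Surjective g := fun q => Submodule.Quotient.induction_on _ q fun b => (hφ b).elim fun a ha =>
    ⟨a, by show Submodule.Quotient.mk (φ a) = _; rw [ha]⟩
  exact ((Submodule.quotEquivOfEq _ _ hg.symm) ≪≫ₗ g.quotKerEquivOfSurjective hs).length_eq.trans
    (Module.length_eq_of_surjective hφ)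

include sq in
/-- The fibre multiplicities in a cartesian square over a zero scheme. -/
theorem length_fibre_square {L : S.Modules} {σ : L.presheaf.obj (Opposite.op ⊤)} (hσ : Cyc.IsZeroSchemeOf i L σ)
    (z : P) :
    Module.length (T.presheaf.stalk (j z)) (T.presheaf.stalk (j z) ⧸ fibIdeal h (j z)) =
      Module.length (P.presheaf.stalk z) (P.presheaf.stalk z ⧸ fibIdeal g z) := by
  have he : h (j z) = i (g z) := apply_square sq z
  have hI : RingHom.ker (j.stalkMap z).hom ≤ fibIdeal h (j z) := by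
    choose tb b _ _ hker using hσ.2
    have hfst : RingHom.ker ((pullback.fst h i).stalkMap (sq.isoPullback.hom z)).hom =
        Ideal.span {h.stalkMap _ (S.presheaf.stalkSpecializes (specializes_of_eq (by
          rw [← Scheme.Hom.comp_apply, pullback.condition, Scheme.Hom.comp_apply]))
            (b (pullback.snd h i (sq.isoPullback.hom z))))} :=
      ker_stalkMap_fst h i (sq.isoPullback.hom z) (hker _) _
    have hle : RingHom.ker ((pullback.fst h i).stalkMap (sq.isoPullback.hom z)).hom ≤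
        fibIdeal h (pullback.fst h i (sq.isoPullback.hom z)) := by
      rw [hfst, Ideal.span_singleton_le_iff_mem]
      refine Ideal.mem_map_of_mem _ fun hu => RingHom.ker_ne_top ((pullback.fst h i).stalkMap (sq.isoPullback.hom z)).hom ?_
      rw [hfst]
      exact Ideal.span_singleton_eq_top.2 (hu.map (h.stalkMap _).hom)
    have key : RingHom.ker ((sq.isoPullback.hom ≫ pullback.fst h i).stalkMap z).hom ≤
        fibIdeal h ((sq.isoPullback.hom ≫ pullback.fst h i) z) := by
      rw [Scheme.Hom.stalkMap_comp, CommRingCat.hom_comp,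
        RingHom.ker_comp_of_injective _ (ConcreteCategory.bijective_of_isIso (sq.isoPullback.hom.stalkMap z)).1]
      exact hle
    generalize hje : sq.isoPullback.hom ≫ pullback.fst h i = j' at key
    obtain rfl : j' = j := hje.symm.trans sq.isoPullback_hom_fst
    exact key
  rw [length_quot_map _ (j.stalkMap_surjective z) hI]
  refine congrArg (fun J => Module.length (P.presheaf.stalk z) (P.presheaf.stalk z ⧸ J)) ?_
  have hcomm : (j.stalkMap z).hom.comp (h.stalkMap (j z)).hom =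
      ((g.stalkMap z).hom.comp (i.stalkMap (g z)).hom).comp
        (S.presheaf.stalkSpecializes (specializes_of_eq he.symm)).hom := by
    rw [← CommRingCat.hom_comp, ← Scheme.Hom.stalkMap_comp, Scheme.Hom.stalkMap_congr_hom _ _ sq.w,
      Scheme.Hom.stalkMap_comp]
    rfl
  rw [fibIdeal, fibIdeal, Ideal.map_map, hcomm, ← Ideal.map_map, ← Ideal.map_map]
  refine congrArg (Ideal.map _) ?_
  rw [Ideal.map_map]
  exact map_maximalIdeal_of_surjective _ (((i.stalkMap_surjective _).comp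
    (ConcreteCategory.bijective_of_isIso (S.presheaf.stalkCongr (.of_eq he)).hom).2))

include sq in
/-- Flat pullback commutes with restriction to a zero scheme. -/
theorem pullFun_square {δT : T → ℤ} {δS : S → ℤ} {L : S.Modules} {σ : L.presheaf.obj (Opposite.op ⊤)}
    (hσ : Cyc.IsZeroSchemeOf i L σ) (r : ℤ) (a : S → ℤ) (z : P) :
    Cyc.pullFun h δT δS r a (j z) = Cyc.pullFun g (fun z => δT (j z)) (fun d => δS (i d)) r (fun d => a (i d)) z := by
  rw [pullFun_apply, pullFun_apply, length_fibre_square sq hσ z]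
  exact if_congr (by rw [apply_square sq]) (by rw [apply_square sq]) rfl

end Square

section Comm

variable {X D D' P : Scheme.{u}} {δ : X → ℤ} (hX : Cyc.IsSetup X δ) {L L' : X.Modules} (hL : PicF.IsInvertible L)
  (hL' : PicF.IsInvertible L') {s : L.presheaf.obj (Opposite.op ⊤)} {s' : L'.presheaf.obj (Opposite.op ⊤)}
  {i : D ⟶ X} [IsClosedImmersion i] {i' : D' ⟶ X} [IsClosedImmersion i'] (hD : Cyc.IsZeroSchemeOf i L s)
  (hD' : Cyc.IsZeroSchemeOf i' L' s') (ι : P ⟶ X) [IsClosedImmersion ι]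
  (hι : ∀ x, x ∈ Set.range i → x ∈ Set.range i' → x ∈ Set.range ι)

include hX hL hL' hD hD' hι in
/-- Two Gysin maps commute, on the intersection of the zero schemes. -/
theorem gysin_comm {k : ℤ} {α : AlgebraicCycle X ℤ} (hα : α ∈ Cyc.Zk X δ (k + 2))
    {w : (ξ : X) → Cyc.secFibre L ξ} (hw : ∀ ξ, w ξ ≠ 0) {w' : (ξ : X) → Cyc.secFibre L' ξ} (hw' : ∀ ξ, w' ξ ≠ 0)
    (C₁ C₂ : AlgebraicCycle P ℤ)
    (h₁ : ∀ z, C₁ z = Cyc.c1CapFun δ L' (Cyc.c1CapFun δ L ⇑α (Cyc.gysinChoice L s w)) (Cyc.gysinChoice L' s' w') (ι z))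
    (h₂ : ∀ z, C₂ z = Cyc.c1CapFun δ L (Cyc.c1CapFun δ L' ⇑α (Cyc.gysinChoice L' s' w')) (Cyc.gysinChoice L s w) (ι z)) :
    Cyc.RatEquiv (fun z => δ (ι z)) k C₁ C₂ := by
  classical
  haveI := hX.1
  have hδ := hX.2.2
  have hg := gysinChoice_ne_zero (L := L) (s := s) hw
  have hg' := gysinChoice_ne_zero (L := L') (s := s') hw'
  have hk : ∀ j : {ξ : X // α ξ ≠ 0}, δ j.1 = k + 2 := fun j => by
    by_contra hne
    exact j.2 (hα j.1 hne)
  choose G hG hGn hsum using fun j : {ξ : X // α ξ ≠ 0} =>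
    exists_fam_comm_point (k := k) hX hL hL' j.1 (hk j) (Cyc.gysinChoice L s w j.1) (hg _)
      (Cyc.gysinChoice L' s' w' j.1) (hg' _) (Cyc.gysinChoice L' s' w') hg' (Cyc.gysinChoice L s w) hg
  have hGD : ∀ j l, (G j).ξ l ∈ Set.range ι := fun j l => hι _
    (by_contra fun hn => (hGn j l).2 (triv_gysin hL hD (hG j l) hn))
    (by_contra fun hn => (hGn j l).1 (triv_gysin hL' hD' (hG j l) hn))
  refine ratEquivZero_of_sum ι hδ (fun j : {ξ : X // α ξ ≠ 0} => j.1) (finite_mem_cycle α)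
    (fun j => (G j).pow (α j.1)) (fun j l => hG j l) (fun j l => hGD j l) _ fun z => ?_
  show C₁ z - C₂ z = _
  rw [h₁, h₂]
  obtain ⟨p₁, f₁⟩ := c1Cap_c1Cap_apply (L := L') hδ hL α (Cyc.gysinChoice L' s' w') (Cyc.gysinChoice L s w) (ι z)
  obtain ⟨p₂, f₂⟩ := c1Cap_c1Cap_apply (L := L) hδ hL' α (Cyc.gysinChoice L s w) (Cyc.gysinChoice L' s' w') (ι z)
  rw [p₁, p₂, ← finsum_sub_distrib f₁ f₂, finsum_congr fun j => Fam.pow_sum hδ (G j) (α j.1) (ι z),
    finsum_congr fun j => congrArg (α j.1 * ·) (hsum j (ι z)).symm,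
    finsum_subtype_eq_finsum_cond (f := fun ξ : X => α ξ *
      (Cyc.c1CapFun δ L' (Cyc.secDivFun δ L ξ (Cyc.gysinChoice L s w ξ)) (Cyc.gysinChoice L' s' w') (ι z) -
        Cyc.c1CapFun δ L (Cyc.secDivFun δ L' ξ (Cyc.gysinChoice L' s' w' ξ)) (Cyc.gysinChoice L s w) (ι z)))
      (fun ξ => α ξ ≠ 0)]
  refine finsum_congr fun ξ => ?_
  rw [finsum_eq_if]
  split_ifs with h
  · rw [mul_sub]
  · rw [not_not.1 h, zero_mul, zero_mul, sub_zero]

end Comm

end Groth.Agent.BivarLib
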