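import Groth.Agent.BivarLib.Disjoint
import Groth.Agent.BivarLib.GysinClass
import Groth.Agent.BivarLib.C1Class

/-!
# Bivariant classes on disjoint open covers
-/

set_option autoImplicit false
set_option backward.isDefEq.respectTransparency false
set_option linter.style.haveILetI false

universe u

open CategoryTheory CategoryTheory.Limits AlgebraicGeometry Topology

noncomputable section

namespace Groth.Agent.BivarLib

open CycLib

section Reps

variable {X Y : Scheme.{u}} {δX : X → ℤ} {δY : Y → ℤ} {f : X ⟶ Y} {p : ℤ}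
  (hX : Cyc.IsSetup X δX) (hY : Cyc.IsSetup Y δY) (c : Bivar.Cl p f δX δY)

include hX hY in
/-- Compatibility with flat pullback, for any representatives. -/
theorem op_pull (s t : Bivar.Sq f δX δY) (h : t.Y' ⟶ s.Y') [Flat h] (h' : t.X' ⟶ s.X') [Flat h'] (r : ℕ)
    (hr : Cyc.HasRelDim h r) (hr' : Cyc.HasRelDim h' r) (w₁ : h ≫ s.g = t.g) (w₂ : h' ≫ s.f' = t.f' ≫ h)
    (w₃ : h' ≫ s.g' = t.g') {k : ℤ} (α : AlgebraicCycle s.Y' ℤ) (hα : α ∈ Cyc.Zk s.Y' s.δY' k)
    (β : AlgebraicCycle s.X' ℤ) (hβ : β ∈ Cyc.Zk s.X' s.δX' (k - p))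
    (e : c.op s k (ChowOps.cl α hα) = ChowOps.cl β hβ) (α₁ : AlgebraicCycle t.Y' ℤ)
    (hc : ⇑α₁ = Cyc.pullFun h t.δY' s.δY' (r : ℤ) ⇑α) (hα₁ : α₁ ∈ Cyc.Zk t.Y' t.δY' (k + r))
    (β₁ : AlgebraicCycle t.X' ℤ) (hb : ⇑β₁ = Cyc.pullFun h' t.δX' s.δX' (r : ℤ) ⇑β)
    (hβ₁ : β₁ ∈ Cyc.Zk t.X' t.δX' (k + r - p)) :
    c.op t (k + r) (ChowOps.cl α₁ hα₁) = ChowOps.cl β₁ hβ₁ := by
  haveI := (isSetup_X' hX s).1
  haveI := (isSetup_X' hX t).1
  obtain ⟨β', hβ', e₁, H⟩ := c.pull s t h h' r hr hr' w₁ w₂ w₃ k α hα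
  obtain ⟨β₁', hβ₁', hb', e₂⟩ := H α₁ hc hα₁
  rw [e₂]
  haveI : LocallyOfFiniteType (h' ≫ s.g') := w₃ ▸ lft_g' t
  haveI := locallyOfFiniteType_of_comp h' s.g'
  have hs : IsShift h' t.δX' s.δX' (r : ℤ) := IsShift.of_relDim (isSetup_X' hX t) (isSetup_X' hX s) r hr'
    (deltaCompat_of_comp h' s.g' (by rw [w₃]; exact t.compatX) s.compatX)
  refine cl_eq_of_ratEquiv _ _ ?_
  have h0 : Cyc.RatEquivZero s.δX' (k - p) (β' - β) := by
    have h1 := e₁.symm.trans e
    have h3 : (⟨β', hβ'⟩ - ⟨β, hβ⟩ : ↥(ChowOps.zk s.X' s.δX' (k - p))) ∈ ChowOps.ratTriv s.X' s.δX' (k - p) :=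
      QuotientAddGroup.eq_iff_sub_mem.1 h1
    exact ratEquivZero_of_mem_ratTriv (isSetup_X' hX s).2.2 h3
  show Cyc.RatEquivZero t.δX' (k + r - p) (β₁' - β₁)
  rw [show k + (r : ℤ) - p = k - p + r by ring,
    show β₁' = pullHom hs (isSetup_X' hX t).2.2 β' from DFunLike.coe_injective hb',
    show β₁ = pullHom hs (isSetup_X' hX t).2.2 β from DFunLike.coe_injective hb, ← map_sub]
  exact ratEquivZero_pull hs (isSetup_X' hX t).2.2 (isSetup_X' hX s).2.2 h0 _ rfl

include hX hY in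
/-- Compatibility with Gysin maps, for any representatives. -/
theorem op_gysin (s t : Bivar.Sq f δX δY) (i : t.Y' ⟶ s.Y') [IsClosedImmersion i] (j : t.X' ⟶ s.X')
    [IsClosedImmersion j] (w₁ : i ≫ s.g = t.g) (w₂ : j ≫ s.f' = t.f' ≫ i) (w₃ : j ≫ s.g' = t.g')
    {L : s.Y'.Modules} (hL : PicF.IsInvertible L) {σ : L.presheaf.obj (Opposite.op ⊤)}
    (hσ : Cyc.IsZeroSchemeOf i L σ) {τ : ((Scheme.Modules.pullback s.f').obj L).presheaf.obj (Opposite.op ⊤)}
    (hτ : Cyc.IsZeroSchemeOf j ((Scheme.Modules.pullback s.f').obj L) τ)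
    {k : ℤ} (α : AlgebraicCycle s.Y' ℤ) (hα : α ∈ Cyc.Zk s.Y' s.δY' k) (β : AlgebraicCycle s.X' ℤ)
    (hβ : β ∈ Cyc.Zk s.X' s.δX' (k - p)) (e : c.op s k (ChowOps.cl α hα) = ChowOps.cl β hβ)
    {w : (ξ : s.Y') → Cyc.secFibre L ξ} (hw : ∀ ξ, w ξ ≠ 0) (γ : AlgebraicCycle t.Y' ℤ)
    (hγ : ∀ d, γ d = Cyc.c1CapFun s.δY' L ⇑α (Cyc.gysinChoice L σ w) (i d))
    (hγk : γ ∈ Cyc.Zk t.Y' t.δY' (k - 1))
    {w' : (ξ : s.X') → Cyc.secFibre ((Scheme.Modules.pullback s.f').obj L) ξ} (hw' : ∀ ξ, w' ξ ≠ 0)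
    (ζ : AlgebraicCycle t.X' ℤ)
    (hζ : ∀ d, ζ d = Cyc.c1CapFun s.δX' ((Scheme.Modules.pullback s.f').obj L) ⇑β
      (Cyc.gysinChoice ((Scheme.Modules.pullback s.f').obj L) τ w') (j d))
    (hζk : ζ ∈ Cyc.Zk t.X' t.δX' (k - 1 - p)) :
    c.op t (k - 1) (ChowOps.cl γ hγk) = ChowOps.cl ζ hζk := by
  obtain ⟨β', hβ', e₁, H⟩ := c.gysin s t i j w₁ w₂ w₃ L hL σ hσ τ hτ k α hα
  obtain ⟨ζ', hζ', hz, e₂⟩ := H w hw γ hγ hγk w' hw'
  rw [e₂]
  have ed : k - 1 - p = k - p - 1 := by ring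
  have hdj : Cyc.DeltaCompat j t.δX' s.δX' := deltaCompat_of_comp j s.g' (by rw [w₃]; exact t.compatX) s.compatX
  have hL' := AmpleLib.isInvertible_pullback s.f' hL
  have g₁ := gysinCH_cl (isSetup_X' hX s) j hdj hL' τ hτ hw' β' hβ' ζ' hz (ed ▸ hζ')
  have g₂ := gysinCH_cl (isSetup_X' hX s) j hdj hL' τ hτ hw' β hβ ζ hζ (ed ▸ hζk)
  rw [e₁.symm.trans e] at g₁
  have h2 := congrArg (Bivar.chCast t.X' t.δX' ed.symm) (g₁.symm.trans g₂)
  rwa [Bivar.chCast_cl, Bivar.chCast_cl] at h2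

end Reps

section GysinRes

variable {T S D P : Scheme.{u}} {u : T ⟶ S} [IsOpenImmersion u] {i : D ⟶ S} [IsClosedImmersion i] {j : P ⟶ T}
  [IsClosedImmersion j] {g : P ⟶ D}

/-- Gysin maps commute with restriction to open subschemes. -/
theorem gysin_openRes (sq : IsPullback j g u i) [IsOpenImmersion g] {δT : T → ℤ} {δS : S → ℤ} {δP : P → ℤ}
    (hS : Cyc.IsSetup S δS) (hd : Cyc.DeltaCompat u δT δS) (hdP : Cyc.DeltaCompat j δP δT)
    {L : S.Modules} (hL : PicF.IsInvertible L) {σ : L.presheaf.obj (Opposite.op ⊤)} (hσ : Cyc.IsZeroSchemeOf i L σ)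
    {w : (ξ : S) → Cyc.secFibre L ξ} (hw : ∀ ξ, w ξ ≠ 0) {M : T.Modules} (hM : PicF.IsInvertible M)
    (e : (Scheme.Modules.pullback u).obj L ≅ M) (τ : M.presheaf.obj (Opposite.op ⊤))
    (hτ : Cyc.IsZeroSchemeOf j M τ) {v : (ξ : T) → Cyc.secFibre M ξ} (hv : ∀ ξ, v ξ ≠ 0) {k l : ℤ} (hl : l = k - 1)
    (α : AlgebraicCycle S ℤ) (hα : α ∈ Cyc.Zk S δS k) (γ : AlgebraicCycle D ℤ)
    (hγ : ∀ d, γ d = Cyc.c1CapFun δS L ⇑α (Cyc.gysinChoice L σ w) (i d))
    (ζ : AlgebraicCycle P ℤ) (hζ : ∀ z, ζ z = Cyc.c1CapFun δT M ⇑(openRes u α) (Cyc.gysinChoice M τ v) (j z))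
    (hγk : openRes g γ ∈ Cyc.Zk P δP l) (hζk : ζ ∈ Cyc.Zk P δP l) :
    ChowOps.cl (openRes g γ) hγk = ChowOps.cl ζ hζk := by
  subst hl
  obtain rfl := delta_unique hd (CycLib.deltaCompat_preimmersion u δS)
  haveI := hS.1
  have hT := isSetup_open u hS
  haveI := hT.1
  have hαu : openRes u α ∈ Cyc.Zk T (fun z => δS (u z)) k := mem_Zk_openRes u hd hα
  refine Eq.trans (Eq.symm ?_) (gysinCH_cl hT j hdP hM τ hτ hv (openRes u α) hαu ζ hζ hζk)
  refine gysinCH_pullFib (w := w) sq hT hS.1 hL hσ hw hdP hM e τ hτ hv (openRes u α) hαu _ (fun z => ?_) hγk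
  have hs := VBundLib.isShift_openImm u δS
  have hkey := congrFun (pullFun_c1Cap hs hT.2.2 hS.2.2 hL _ (gysinChoice_ne_zero (s := σ) hw) α) (j z)
  rw [VBundLib.pullFun_openImm] at hkey
  have he : pullCycle hs hT.2.2 α = openRes u α := DFunLike.coe_injective (coe_openRes u δS α).symm
  rw [he] at hkey
  rw [openRes_apply, hγ, ← apply_square sq z]
  exact hkey

end GysinRes

section Pieces

variable {X Y : Scheme.{u}} {δX : X → ℤ} {δY : Y → ℤ} {f : X ⟶ Y} {J : Type u} (s : J → Bivar.Sq f δX δY)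
  [∀ a, IsOpenImmersion (s a).g]

/-- The piece of a square over an open member of the cover, on the base. -/
abbrev pieceY (t : Bivar.Sq f δX δY) (a : J) : Scheme.{u} := pullback t.g (s a).g

/-- The inclusion of the piece, on the base. -/
abbrev iotaY (t : Bivar.Sq f δX δY) (a : J) : pieceY s t a ⟶ t.Y' := pullback.fst t.g (s a).g

/-- The piece of a square over an open member of the cover, on the fibre product. -/
abbrev pieceX (t : Bivar.Sq f δX δY) (a : J) : Scheme.{u} := pullback t.f' (iotaY s t a)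

/-- The inclusion of the piece, on the fibre product. -/
abbrev iotaX (t : Bivar.Sq f δX δY) (a : J) : pieceX s t a ⟶ t.X' := pullback.fst t.f' (iotaY s t a)

/-- The map of the piece to the member, on the fibre product. -/
def pieceG' (t : Bivar.Sq f δX δY) (a : J) : pieceX s t a ⟶ (s a).X' :=
  (s a).isPullback.lift (pullback.snd t.f' (iotaY s t a) ≫ pullback.snd t.g (s a).g) (iotaX s t a ≫ t.g')
    (by rw [Category.assoc, ← pullback.condition, ← Category.assoc, ← pullback.condition, Category.assoc,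
      t.isPullback.w, ← Category.assoc])

theorem pieceG'_g' (t : Bivar.Sq f δX δY) (a : J) : pieceG' s t a ≫ (s a).g' = iotaX s t a ≫ t.g' :=
  (s a).isPullback.lift_snd _ _ _

theorem pieceG'_f' (t : Bivar.Sq f δX δY) (a : J) :
    pieceG' s t a ≫ (s a).f' = pullback.snd t.f' (iotaY s t a) ≫ pullback.snd t.g (s a).g :=
  (s a).isPullback.lift_fst _ _ _

/-- The piece of a square over an open member of the cover, as a square. -/
def piece (t : Bivar.Sq f δX δY) (a : J) : Bivar.Sq (s a).f' (s a).δX' (s a).δY' where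
  Y' := pieceY s t a
  X' := pieceX s t a
  g := pullback.snd t.g (s a).g
  f' := pullback.snd t.f' (iotaY s t a)
  g' := pieceG' s t a
  isPullback := IsPullback.of_bot
    (by
      rw [pieceG'_g', ← pullback.condition]
      exact (IsPullback.of_hasPullback t.f' (iotaY s t a)).flip.paste_vert t.isPullback)
    (pieceG'_f' s t a).symm (s a).isPullback
  lft := by haveI := t.lft; exact MorphismProperty.pullback_snd _ _ inferInstance
  δY' := fun z => t.δY' (iotaY s t a z)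
  δX' := fun z => t.δX' (iotaX s t a z)
  compatY := by
    haveI := t.lft
    exact deltaCompat_of_comp _ (s a).g (by
      rw [← pullback.condition]
      exact Bivar.deltaCompat_comp _ _ _ _ _ (CycLib.deltaCompat_preimmersion _ _) t.compatY) (s a).compatY
  compatX := by
    haveI := lft_g' t
    haveI : LocallyOfFiniteType (pieceG' s t a ≫ (s a).g') := by rw [pieceG'_g']; infer_instance
    haveI := locallyOfFiniteType_of_comp (pieceG' s t a) (s a).g'
    exact deltaCompat_of_comp _ (s a).g' (by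
      rw [pieceG'_g']
      exact Bivar.deltaCompat_comp _ _ _ _ _ (CycLib.deltaCompat_preimmersion _ _) t.compatX) (s a).compatX

theorem compat_iotaY (t : Bivar.Sq f δX δY) (a : J) : Cyc.DeltaCompat (iotaY s t a) (piece s t a).δY' t.δY' :=
  CycLib.deltaCompat_preimmersion _ _

theorem compat_iotaX (t : Bivar.Sq f δX δY) (a : J) : Cyc.DeltaCompat (iotaX s t a) (piece s t a).δX' t.δX' :=
  CycLib.deltaCompat_preimmersion _ _

section Map

variable (t t' : Bivar.Sq f δX δY) (h : t'.Y' ⟶ t.Y') (h' : t'.X' ⟶ t.X') (w₁ : h ≫ t.g = t'.g)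
  (w₂ : h' ≫ t.f' = t'.f' ≫ h) (w₃ : h' ≫ t.g' = t'.g') (a : J)

/-- The map of pieces, on the base. -/
def mapY : pieceY s t' a ⟶ pieceY s t a :=
  pullback.lift (iotaY s t' a ≫ h) (pullback.snd t'.g (s a).g) (by rw [Category.assoc, w₁, pullback.condition])

theorem mapY_iota : mapY s t t' h w₁ a ≫ iotaY s t a = iotaY s t' a ≫ h := pullback.lift_fst _ _ _

theorem mapY_g : mapY s t t' h w₁ a ≫ pullback.snd t.g (s a).g = pullback.snd t'.g (s a).g :=
  pullback.lift_snd _ _ _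

theorem sq_mapY : IsPullback (iotaY s t' a) (mapY s t t' h w₁ a) h (iotaY s t a) :=
  IsPullback.of_bot (by rw [mapY_g, w₁]; exact IsPullback.of_hasPullback t'.g (s a).g) (mapY_iota s t t' h w₁ a).symm
    (IsPullback.of_hasPullback t.g (s a).g)

/-- The map of pieces, on the fibre products. -/
def mapX : pieceX s t' a ⟶ pieceX s t a :=
  pullback.lift (iotaX s t' a ≫ h') (pullback.snd t'.f' (iotaY s t' a) ≫ mapY s t t' h w₁ a)
    (by rw [Category.assoc, w₂, ← Category.assoc, pullback.condition, Category.assoc, Category.assoc, mapY_iota])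

theorem mapX_iota : mapX s t t' h h' w₁ w₂ a ≫ iotaX s t a = iotaX s t' a ≫ h' := pullback.lift_fst _ _ _

theorem mapX_f' :
    mapX s t t' h h' w₁ w₂ a ≫ pullback.snd t.f' (iotaY s t a) = pullback.snd t'.f' (iotaY s t' a) ≫ mapY s t t' h w₁ a :=
  pullback.lift_snd _ _ _

theorem sq_mapX : IsPullback (iotaX s t' a) (mapX s t t' h h' w₁ w₂ a) h' (iotaX s t a) :=
  IsPullback.of_bot
    (by
      rw [mapX_f', w₂]
      exact (IsPullback.of_hasPullback t'.f' (iotaY s t' a)).paste_vert (sq_mapY s t t' h w₁ a))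
    (mapX_iota s t t' h h' w₁ w₂ a).symm (IsPullback.of_hasPullback t.f' (iotaY s t a))

include w₃ in
theorem mapX_g' : mapX s t t' h h' w₁ w₂ a ≫ pieceG' s t a = pieceG' s t' a := by
  refine (s a).isPullback.hom_ext ?_ ?_
  · rw [Category.assoc, pieceG'_f', pieceG'_f', ← Category.assoc, mapX_f', Category.assoc, mapY_g]
  · rw [Category.assoc, pieceG'_g', pieceG'_g', ← Category.assoc, mapX_iota, Category.assoc, w₃]

end Map

variable (hdisj : ∀ a b : J, a ≠ b → Disjoint (Set.range (s a).g) (Set.range (s b).g))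
  (hcov : ∀ y : Y, ∃ a, y ∈ Set.range (s a).g)

include hdisj in
theorem disjoint_iotaY (t : Bivar.Sq f δX δY) (a b : J) (hab : a ≠ b) :
    Disjoint (Set.range (iotaY s t a)) (Set.range (iotaY s t b)) := by
  rw [Scheme.Pullback.range_fst, Scheme.Pullback.range_fst]
  exact (hdisj a b hab).preimage _

include hcov in
theorem cover_iotaY (t : Bivar.Sq f δX δY) (y : t.Y') : ∃ a, y ∈ Set.range (iotaY s t a) := by
  obtain ⟨a, ha⟩ := hcov (t.g y)
  exact ⟨a, by rw [Scheme.Pullback.range_fst]; exact ha⟩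

include hdisj in
theorem disjoint_iotaX (t : Bivar.Sq f δX δY) (a b : J) (hab : a ≠ b) :
    Disjoint (Set.range (iotaX s t a)) (Set.range (iotaX s t b)) := by
  rw [show Set.range (iotaX s t a) = t.f' ⁻¹' Set.range (iotaY s t a) from Scheme.Pullback.range_fst _ _,
    show Set.range (iotaX s t b) = t.f' ⁻¹' Set.range (iotaY s t b) from Scheme.Pullback.range_fst _ _]
  exact (disjoint_iotaY s hdisj t a b hab).preimage _

include hcov in
theorem cover_iotaX (t : Bivar.Sq f δX δY) (x : t.X') : ∃ a, x ∈ Set.range (iotaX s t a) := by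
  obtain ⟨a, ha⟩ := cover_iotaY s hcov t (t.f' x)
  exact ⟨a, by rw [Scheme.Pullback.range_fst]; exact ha⟩

variable (hX : Cyc.IsSetup X δX) (hY : Cyc.IsSetup Y δY)

/-- Restriction to a piece, on the base. -/
def resY (t : Bivar.Sq f δX δY) (a : J) (k : ℤ) : ChowOps.CH t.Y' t.δY' k →+ ChowOps.CH (pieceY s t a) (piece s t a).δY' k :=
  openCH (iotaY s t a) (compat_iotaY s t a) (isSetup_Y' hY t) k

/-- Restriction to a piece, on the fibre product. -/
def resX (t : Bivar.Sq f δX δY) (a : J) (k : ℤ) : ChowOps.CH t.X' t.δX' k →+ ChowOps.CH (pieceX s t a) (piece s t a).δX' k :=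
  openCH (iotaX s t a) (compat_iotaX s t a) (isSetup_X' hX t) k

include hdisj hcov in
theorem resX_ext (t : Bivar.Sq f δX δY) {k : ℤ} {x y : ChowOps.CH t.X' t.δX' k}
    (h : ∀ a, resX s hX t a k x = resX s hX t a k y) : x = y :=
  openCH_ext (fun a => iotaX s t a) (disjoint_iotaX s hdisj t) (cover_iotaX s hcov t) (isSetup_X' hX t)
    (compat_iotaX s t) h

include hY in
theorem op_resY {p : ℤ} (c : Bivar.Cl p f δX δY) (t : Bivar.Sq f δX δY) (a : J) (k : ℤ) (x : ChowOps.CH t.Y' t.δY' k) :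
    resX s hX t a (k - p) (c.op t k x) = (c.res (s a)).op (piece s t a) k (resY s hY t a k x) :=
  (op_openCH hX hY c t ((s a).paste (piece s t a)) (iotaY s t a) (iotaX s t a) pullback.condition
    pullback.condition (pieceG'_g' s t a).symm (compat_iotaY s t a) (compat_iotaX s t a) k x).symm

include hX hY hdisj hcov in
theorem res_injective {p : ℤ} {c d : Bivar.Cl p f δX δY} (h : ∀ a, c.res (s a) = d.res (s a)) : c = d := by
  refine Bivar.Cl.ext (funext fun t => funext fun k => AddMonoidHom.ext fun x => ?_)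
  refine resX_ext s hdisj hcov hX t fun a => ?_
  rw [op_resY s hX hY c t a k x, op_resY s hX hY d t a k x, h a]

variable {p : ℤ} (d : (a : J) → Bivar.Cl p (s a).f' (s a).δX' (s a).δY')

/-- The glued operation. -/
def glueOp (hdisj : ∀ a b : J, a ≠ b → Disjoint (Set.range (s a).g) (Set.range (s b).g))
    (hcov : ∀ y : Y, ∃ a, y ∈ Set.range (s a).g) (t : Bivar.Sq f δX δY) (k : ℤ) :
    ChowOps.CH t.Y' t.δY' k →+ ChowOps.CH t.X' t.δX' (k - p) :=
  have hex : ∀ x : ChowOps.CH t.Y' t.δY' k, ∃ y, ∀ a,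
      resX s hX t a (k - p) y = (d a).op (piece s t a) k (resY s hY t a k x) := fun x =>
    exists_openCH (fun a => iotaX s t a) (isSetup_X' hX t) (compat_iotaX s t) _ (disjoint_iotaX s hdisj t)
      (cover_iotaX s hcov t)
  AddMonoidHom.mk' (fun x => (hex x).choose) fun x y => resX_ext s hdisj hcov hX t fun a => by
    rw [map_add, (hex _).choose_spec a, (hex _).choose_spec a, (hex _).choose_spec a, map_add, map_add]

theorem glueOp_spec (t : Bivar.Sq f δX δY) (k : ℤ) (x : ChowOps.CH t.Y' t.δY' k) (a : J) :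
    resX s hX t a (k - p) (glueOp s hX hY d hdisj hcov t k x) = (d a).op (piece s t a) k (resY s hY t a k x) :=
  (exists_openCH (fun a => iotaX s t a) (isSetup_X' hX t) (compat_iotaX s t) _ (disjoint_iotaX s hdisj t)
    (cover_iotaX s hcov t)).choose_spec a

theorem glueOp_rep (t : Bivar.Sq f δX δY) (k : ℤ) {α : AlgebraicCycle t.Y' ℤ} (hα : α ∈ Cyc.Zk t.Y' t.δY' k)
    {β : AlgebraicCycle t.X' ℤ} {hβ : β ∈ Cyc.Zk t.X' t.δX' (k - p)}
    (e : ChowOps.cl β hβ = glueOp s hX hY d hdisj hcov t k (ChowOps.cl α hα)) (a : J) :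
    (d a).op (piece s t a) k (ChowOps.cl (openRes (iotaY s t a) α) (mem_Zk_openRes _ (compat_iotaY s t a) hα)) =
      ChowOps.cl (openRes (iotaX s t a) β) (mem_Zk_openRes _ (compat_iotaX s t a) hβ) := by
  have h := glueOp_spec s hdisj hcov hX hY d t k (ChowOps.cl α hα) a
  rw [← e] at h
  exact h.symm

/-- The glued class. -/
def glueClass : Bivar.Cl p f δX δY where
  op t k := glueOp s hX hY d hdisj hcov t k
  push t t' h _ h' _ w₁ w₂ w₃ k := by
    intro α hα
    obtain ⟨β, hβ, e⟩ := Bivar.exists_rep (glueOp s hX hY d hdisj hcov t' k (ChowOps.cl α hα))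
    refine ⟨β, hβ, e.symm, resX_ext s hdisj hcov hX t fun a => ?_⟩
    rw [glueOp_spec s hdisj hcov hX hY d t k]
    haveI : IsProper (mapY s t t' h w₁ a) :=
      MorphismProperty.of_isPullback (sq_mapY s t t' h w₁ a) (inferInstance : IsProper h)
    haveI : IsProper (mapX s t t' h h' w₁ w₂ a) :=
      MorphismProperty.of_isPullback (sq_mapX s t t' h h' w₁ w₂ a) (inferInstance : IsProper h')
    have hYt := isSetup_Y' hY t
    have hYt' := isSetup_Y' hY t'
    have hXt := isSetup_X' hX t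
    have hXt' := isSetup_X' hX t'
    haveI := hYt.1
    haveI := hXt.1
    haveI := (isSetup_open (iotaY s t a) hYt).1
    haveI := (isSetup_open (iotaY s t' a) hYt').1
    haveI := (isSetup_open (iotaX s t a) hXt).1
    haveI := (isSetup_open (iotaX s t' a) hXt').1
    have hd : Cyc.DeltaCompat h t'.δY' t.δY' := deltaCompat_of_comp h t.g (by rw [w₁]; exact t'.compatY) t.compatY
    have hd' : Cyc.DeltaCompat h' t'.δX' t.δX' := deltaCompat_of_comp h' t.g' (by rw [w₃]; exact t'.compatX) t.compatX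
    have hdA : Cyc.DeltaCompat (mapY s t t' h w₁ a) (piece s t' a).δY' (piece s t a).δY' :=
      deltaCompat_of_comp _ (iotaY s t a) (by
        rw [mapY_iota]; exact Bivar.deltaCompat_comp _ _ _ _ _ (compat_iotaY s t' a) hd) (compat_iotaY s t a)
    have hdA' : Cyc.DeltaCompat (mapX s t t' h h' w₁ w₂ a) (piece s t' a).δX' (piece s t a).δX' :=
      deltaCompat_of_comp _ (iotaX s t a) (by
        rw [mapX_iota]; exact Bivar.deltaCompat_comp _ _ _ _ _ (compat_iotaX s t' a) hd') (compat_iotaX s t a)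
    have cY : openRes (iotaY s t a) (AlgebraicCycle.map h t'.δY' t.δY' α) =
        AlgebraicCycle.map (mapY s t t' h w₁ a) (piece s t' a).δY' (piece s t a).δY' (openRes (iotaY s t' a) α) :=
      DFunLike.coe_injective ((coe_openRes _ _ _).trans (map_pullFun (sq_mapY s t t' h w₁ a)
        (isSetup_open (iotaY s t a) hYt).2.2 (isSetup_open (iotaY s t' a) hYt').2.2 hd hdA
        (VBundLib.isShift_openImm _ _) (VBundLib.isShift_openImm _ _) α _ (coe_openRes _ _ _)).symm)
    have cX : openRes (iotaX s t a) (AlgebraicCycle.map h' t'.δX' t.δX' β) =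
        AlgebraicCycle.map (mapX s t t' h h' w₁ w₂ a) (piece s t' a).δX' (piece s t a).δX' (openRes (iotaX s t' a) β) :=
      DFunLike.coe_injective ((coe_openRes _ _ _).trans (map_pullFun (sq_mapX s t t' h h' w₁ w₂ a)
        (isSetup_open (iotaX s t a) hXt).2.2 (isSetup_open (iotaX s t' a) hXt').2.2 hd' hdA'
        (VBundLib.isShift_openImm _ _) (VBundLib.isShift_openImm _ _) β _ (coe_openRes _ _ _)).symm)
    have hp := op_pushCH (isSetup_X' hX (s a)) (isSetup_Y' hY (s a)) (d a) (piece s t a) (piece s t' a)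
      (mapY s t t' h w₁ a) (mapX s t t' h h' w₁ w₂ a) (mapY_g s t t' h w₁ a) (mapX_f' s t t' h h' w₁ w₂ a)
      (mapX_g' s t t' h h' w₁ w₂ w₃ a) hdA hdA' k
      (ChowOps.cl (openRes (iotaY s t' a) α) (mem_Zk_openRes _ (compat_iotaY s t' a) hα))
    rw [glueOp_rep s hdisj hcov hX hY d t' k hα e a, pushCH_cl, pushCH_cl] at hp
    exact ((congrArg _ (Bivar.cl_congr cY _ _)).trans hp).trans (Bivar.cl_congr cX.symm _ _)
  pull t t' h _ h' _ r hr hr' w₁ w₂ w₃ k := by
    intro α hα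
    obtain ⟨β, hβ, e⟩ := Bivar.exists_rep (glueOp s hX hY d hdisj hcov t k (ChowOps.cl α hα))
    refine ⟨β, hβ, e.symm, fun α₁ hc hα₁ => ?_⟩
    have hYt := isSetup_Y' hY t
    have hYt' := isSetup_Y' hY t'
    have hXt := isSetup_X' hX t
    have hXt' := isSetup_X' hX t'
    haveI := hYt.1
    haveI := hXt.1
    haveI := hYt'.1
    haveI := hXt'.1
    haveI : LocallyOfFiniteType (h ≫ t.g) := w₁ ▸ t'.lft
    haveI := locallyOfFiniteType_of_comp h t.g
    haveI : LocallyOfFiniteType (h' ≫ t.g') := w₃ ▸ lft_g' t'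
    haveI := locallyOfFiniteType_of_comp h' t.g'
    have hd : Cyc.DeltaCompat h t'.δY' t.δY' := deltaCompat_of_comp h t.g (by rw [w₁]; exact t'.compatY) t.compatY
    have hd' : Cyc.DeltaCompat h' t'.δX' t.δX' := deltaCompat_of_comp h' t.g' (by rw [w₃]; exact t'.compatX) t.compatX
    have hs := IsShift.of_relDim hYt' hYt r hr hd
    have hs' := IsShift.of_relDim hXt' hXt r hr' hd'
    have hβ₁ : pullHom hs' hXt'.2.2 β ∈ Cyc.Zk t'.X' t'.δX' (k + r - p) := by
      rw [show k + (r : ℤ) - p = k - p + r by ring]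
      exact Bivar.pullFun_mem_Zk h' t'.δX' t.δX' r (k - p) hβ _ rfl
    refine ⟨pullHom hs' hXt'.2.2 β, hβ₁, rfl, resX_ext s hdisj hcov hX t' fun a => ?_⟩
    rw [glueOp_spec s hdisj hcov hX hY d t' (k + r)]
    haveI : Flat (mapY s t t' h w₁ a) :=
      MorphismProperty.of_isPullback (sq_mapY s t t' h w₁ a) (inferInstance : Flat h)
    haveI : Flat (mapX s t t' h h' w₁ w₂ a) :=
      MorphismProperty.of_isPullback (sq_mapX s t t' h h' w₁ w₂ a) (inferInstance : Flat h')
    have hYA := isSetup_open (iotaY s t a) hYt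
    have hYA' := isSetup_open (iotaY s t' a) hYt'
    have hXA := isSetup_open (iotaX s t a) hXt
    have hXA' := isSetup_open (iotaX s t' a) hXt'
    haveI := hYA.1
    haveI := hYA'.1
    haveI := hXA.1
    haveI := hXA'.1
    have hrA : Cyc.HasRelDim (mapY s t t' h w₁ a) r := hasRelDim_baseChange (sq_mapY s t t' h w₁ a) r hr
    have hrA' : Cyc.HasRelDim (mapX s t t' h h' w₁ w₂ a) r := hasRelDim_baseChange (sq_mapX s t t' h h' w₁ w₂ a) r hr'
    haveI : LocallyOfFiniteType (mapY s t t' h w₁ a) :=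
      MorphismProperty.of_isPullback (sq_mapY s t t' h w₁ a) (inferInstance : LocallyOfFiniteType h)
    haveI : LocallyOfFiniteType (mapX s t t' h h' w₁ w₂ a) :=
      MorphismProperty.of_isPullback (sq_mapX s t t' h h' w₁ w₂ a) (inferInstance : LocallyOfFiniteType h')
    have hdA : Cyc.DeltaCompat (mapY s t t' h w₁ a) (piece s t' a).δY' (piece s t a).δY' :=
      deltaCompat_of_comp _ (iotaY s t a) (by
        rw [mapY_iota]; exact Bivar.deltaCompat_comp _ _ _ _ _ (compat_iotaY s t' a) hd) (compat_iotaY s t a)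
    have hdA' : Cyc.DeltaCompat (mapX s t t' h h' w₁ w₂ a) (piece s t' a).δX' (piece s t a).δX' :=
      deltaCompat_of_comp _ (iotaX s t a) (by
        rw [mapX_iota]; exact Bivar.deltaCompat_comp _ _ _ _ _ (compat_iotaX s t' a) hd') (compat_iotaX s t a)
    have hsA := IsShift.of_relDim hYA' hYA r hrA hdA
    have hsA' := IsShift.of_relDim hXA' hXA r hrA' hdA'
    refine op_pull (isSetup_X' hX (s a)) (isSetup_Y' hY (s a)) (d a) (piece s t a) (piece s t' a) _ _ r hrA hrA'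
      (mapY_g s t t' h w₁ a) (mapX_f' s t t' h h' w₁ w₂ a) (mapX_g' s t t' h h' w₁ w₂ w₃ a) _ _ _ _
      (glueOp_rep s hdisj hcov hX hY d t k hα e a) _ ?_ _ _ ?_ _
    · show ⇑(openRes (iotaY s t' a) α₁) = _
      rw [coe_openRes (iotaY s t' a) t'.δY']
      erw [coe_openRes (iotaY s t a) t.δY']
      rw [hc]
      erw [← pullFun_comp (VBundLib.isShift_openImm _ _) hsA hYA.2.2 hYA'.2.2,
        ← pullFun_comp hs (VBundLib.isShift_openImm _ _) hYt'.2.2 hYA'.2.2, mapY_iota, zero_add, add_zero]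
    · show ⇑(openRes (iotaX s t' a) (pullHom hs' hXt'.2.2 β)) = _
      rw [coe_openRes (iotaX s t' a) t'.δX']
      erw [coe_openRes (iotaX s t a) t.δX']
      show Cyc.pullFun _ _ _ 0 (Cyc.pullFun h' t'.δX' t.δX' (r : ℤ) ⇑β) = _
      erw [← pullFun_comp (VBundLib.isShift_openImm _ _) hsA' hXA.2.2 hXA'.2.2,
        ← pullFun_comp hs' (VBundLib.isShift_openImm _ _) hXt'.2.2 hXA'.2.2, mapX_iota, zero_add, add_zero]
  gysin t t' i _ j _ w₁ w₂ w₃ L hL σ hσ τ hτ k := by
    intro α hα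
    obtain ⟨β, hβ, e⟩ := Bivar.exists_rep (glueOp s hX hY d hdisj hcov t k (ChowOps.cl α hα))
    refine ⟨β, hβ, e.symm, fun w hw γ hγ hγk w' hw' => ?_⟩
    have hYt := isSetup_Y' hY t
    have hXt := isSetup_X' hX t
    haveI := hYt.1
    haveI := hXt.1
    have hL' := AmpleLib.isInvertible_pullback t.f' hL
    have hdj : Cyc.DeltaCompat j t'.δX' t.δX' := deltaCompat_of_comp j t.g' (by rw [w₃]; exact t'.compatX) t.compatX
    have hdi : Cyc.DeltaCompat i t'.δY' t.δY' := deltaCompat_of_comp i t.g (by rw [w₁]; exact t'.compatY) t.compatY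
    let ζ := restrictCycle j (c1Cycle hXt.2.2 hL' β (Cyc.gysinChoice _ τ w'))
    have hζ : ζ ∈ Cyc.Zk t'.X' t'.δX' (k - 1 - p) := by
      rw [show k - 1 - p = k - p - 1 by ring]
      exact mem_Zk_gysin j hdj hβ fun _ => rfl
    refine ⟨ζ, hζ, fun _ => rfl, resX_ext s hdisj hcov hX t' fun a => ?_⟩
    rw [glueOp_spec s hdisj hcov hX hY d t' (k - 1)]
    haveI : IsClosedImmersion (mapY s t t' i w₁ a) :=
      MorphismProperty.of_isPullback (sq_mapY s t t' i w₁ a) (inferInstance : IsClosedImmersion i)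
    haveI : IsClosedImmersion (mapX s t t' i j w₁ w₂ a) :=
      MorphismProperty.of_isPullback (sq_mapX s t t' i j w₁ w₂ a) (inferInstance : IsClosedImmersion j)
    have hYA := isSetup_open (iotaY s t a) hYt
    have hXA := isSetup_open (iotaX s t a) hXt
    haveI := hYA.1
    haveI := hXA.1
    have hdA : Cyc.DeltaCompat (mapY s t t' i w₁ a) (piece s t' a).δY' (piece s t a).δY' :=
      deltaCompat_of_comp _ (iotaY s t a) (by
        rw [mapY_iota]; exact Bivar.deltaCompat_comp _ _ _ _ _ (compat_iotaY s t' a) hdi) (compat_iotaY s t a)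
    have hdA' : Cyc.DeltaCompat (mapX s t t' i j w₁ w₂ a) (piece s t' a).δX' (piece s t a).δX' :=
      deltaCompat_of_comp _ (iotaX s t a) (by
        rw [mapX_iota]; exact Bivar.deltaCompat_comp _ _ _ _ _ (compat_iotaX s t' a) hdj) (compat_iotaX s t a)
    let LA := (Scheme.Modules.pullback (iotaY s t a)).obj L
    have hLA : PicF.IsInvertible LA := AmpleLib.isInvertible_pullback _ hL
    have hσA : Cyc.IsZeroSchemeOf (mapY s t t' i w₁ a) LA (pullSec (iotaY s t a) L σ) :=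
      isZeroSchemeOf_of_isPullback (iotaY s t a) hL hσ (sq_mapY s t t' i w₁ a).flip
    let MA := (Scheme.Modules.pullback (piece s t a).f').obj LA
    have hMA : PicF.IsInvertible MA := AmpleLib.isInvertible_pullback _ hLA
    have sqf : IsPullback (mapX s t t' i j w₁ w₂ a) (pullback.snd t'.f' (iotaY s t' a)) (pullback.snd t.f' (iotaY s t a))
        (mapY s t t' i w₁ a) :=
      IsPullback.of_right (by
          show IsPullback (mapX s t t' i j w₁ w₂ a ≫ pieceG' s t a) _ _ (mapY s t t' i w₁ a ≫ pullback.snd t.g (s a).g)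
          rw [mapX_g' s t t' i j w₁ w₂ w₃ a, mapY_g]
          exact (piece s t' a).isPullback.flip)
        (mapX_f' s t t' i j w₁ w₂ a) (piece s t a).isPullback.flip
    have hτA : Cyc.IsZeroSchemeOf (mapX s t t' i j w₁ w₂ a) MA (pullSec (piece s t a).f' LA (pullSec (iotaY s t a) L σ)) :=
      isZeroSchemeOf_of_isPullback (piece s t a).f' hLA hσA sqf
    let eX : (Scheme.Modules.pullback (iotaX s t a)).obj ((Scheme.Modules.pullback t.f').obj L) ≅ MA :=
      pullOverIso (iotaX s t a) t.f' _ rfl L ≪≫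
        (pullOverIso (piece s t a).f' (iotaY s t a) _ pullback.condition.symm L).symm
    have hαA : openRes (iotaY s t a) α ∈ Cyc.Zk (piece s t a).Y' (piece s t a).δY' k :=
      mem_Zk_openRes _ (compat_iotaY s t a) hα
    have hβA : openRes (iotaX s t a) β ∈ Cyc.Zk (piece s t a).X' (piece s t a).δX' (k - p) :=
      mem_Zk_openRes _ (compat_iotaX s t a) hβ
    let γA := restrictCycle (mapY s t t' i w₁ a) (c1Cycle hYA.2.2 hLA (openRes (iotaY s t a) α)
      (Cyc.gysinChoice LA (pullSec (iotaY s t a) L σ) (secs hLA)))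
    have hγA : γA ∈ Cyc.Zk (piece s t' a).Y' (piece s t' a).δY' (k - 1) := mem_Zk_gysin _ hdA hαA fun _ => rfl
    let ζA := restrictCycle (mapX s t t' i j w₁ w₂ a) (c1Cycle hXA.2.2 hMA (openRes (iotaX s t a) β)
      (Cyc.gysinChoice MA (pullSec (piece s t a).f' LA (pullSec (iotaY s t a) L σ)) (secs hMA)))
    have hζA : ζA ∈ Cyc.Zk (piece s t' a).X' (piece s t' a).δX' (k - 1 - p) := by
      rw [show k - 1 - p = k - p - 1 by ring]
      exact mem_Zk_gysin _ hdA' hβA fun _ => rfl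
    have e₁ := gysin_openRes (sq_mapY s t t' i w₁ a).flip hYt (compat_iotaY s t a) hdA hL hσ hw hLA (Iso.refl _)
      (pullSec (iotaY s t a) L σ) hσA (secs_ne_zero hLA) (rfl : k - 1 = k - 1) α hα γ hγ γA (fun _ => rfl)
      (mem_Zk_openRes _ (compat_iotaY s t' a) hγk) hγA
    have e₂ := gysin_openRes (sq_mapX s t t' i j w₁ w₂ a).flip hXt (compat_iotaX s t a) hdA' hL' hτ hw' hMA eX
      (pullSec (piece s t a).f' LA (pullSec (iotaY s t a) L σ)) hτA (secs_ne_zero hMA)
      (show k - 1 - p = k - p - 1 by ring) β hβ ζ (fun _ => rfl) ζA (fun _ => rfl)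
      (mem_Zk_openRes _ (compat_iotaX s t' a) hζ) hζA
    exact ((congrArg _ e₁).trans (op_gysin (isSetup_X' hX (s a)) (isSetup_Y' hY (s a)) (d a) (piece s t a) (piece s t' a)
      (mapY s t t' i w₁ a) (mapX s t t' i j w₁ w₂ a) (mapY_g s t t' i w₁ a) (mapX_f' s t t' i j w₁ w₂ a)
      (mapX_g' s t t' i j w₁ w₂ w₃ a) hLA hσA hτA _ hαA _ hβA (glueOp_rep s hdisj hcov hX hY d t k hα e a)
      (secs_ne_zero hLA) γA (fun _ => rfl) hγA (secs_ne_zero hMA) ζA (fun _ => rfl) hζA)).trans e₂.symm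

theorem glueClass_res (a : J) : (glueClass s hdisj hcov hX hY d).res (s a) = d a := by
  refine Bivar.Cl.ext (funext fun t => funext fun k => AddMonoidHom.ext fun x => ?_)
  have hXs := isSetup_X' hX (s a)
  have hYs := isSetup_Y' hY (s a)
  let T := (s a).paste t
  let u : t.Y' ⟶ pieceY s T a := pullback.lift (𝟙 _) t.g (by rw [Category.id_comp])
  have hu₁ : u ≫ iotaY s T a = 𝟙 _ := pullback.lift_fst _ _ _
  have hu₂ : u ≫ pullback.snd T.g (s a).g = t.g := pullback.lift_snd _ _ _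
  let u' : t.X' ⟶ pieceX s T a := pullback.lift (𝟙 _) (t.f' ≫ u)
    (by rw [Category.id_comp, Category.assoc, hu₁, Category.comp_id])
  have hu'₁ : u' ≫ iotaX s T a = 𝟙 _ := pullback.lift_fst _ _ _
  have hu'₂ : u' ≫ pullback.snd T.f' (iotaY s T a) = t.f' ≫ u := pullback.lift_snd _ _ _
  have hu₁' : iotaY s T a ≫ u = 𝟙 _ := (cancel_mono (iotaY s T a)).1 (by rw [Category.assoc, hu₁, Category.comp_id, Category.id_comp])
  have hu'₁' : iotaX s T a ≫ u' = 𝟙 _ := (cancel_mono (iotaX s T a)).1 (by rw [Category.assoc, hu'₁, Category.comp_id, Category.id_comp])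
  haveI : IsIso u := ⟨iotaY s T a, hu₁, hu₁'⟩
  haveI : IsIso u' := ⟨iotaX s T a, hu'₁, hu'₁'⟩
  have hw : u' ≫ pieceG' s T a = t.g' := by
    refine (s a).isPullback.hom_ext ?_ ?_
    · rw [Category.assoc, pieceG'_f', ← Category.assoc, hu'₂, Category.assoc, hu₂, t.isPullback.w]
    · rw [Category.assoc, pieceG'_g', ← Category.assoc, hu'₁, Category.id_comp]
  have hd : Cyc.DeltaCompat u t.δY' (piece s T a).δY' := deltaCompat_of_comp u (iotaY s T a)
    (by rw [hu₁]; exact CycLib.deltaCompat_preimmersion (𝟙 _) _) (compat_iotaY s T a)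
  have hd' : Cyc.DeltaCompat u' t.δX' (piece s T a).δX' := deltaCompat_of_comp u' (iotaX s T a)
    (by rw [hu'₁]; exact CycLib.deltaCompat_preimmersion (𝟙 _) _) (compat_iotaX s T a)
  obtain ⟨α, hα, rfl⟩ := Bivar.exists_rep x
  obtain ⟨β, hβ, e⟩ := Bivar.exists_rep (glueOp s hX hY d hdisj hcov T k (ChowOps.cl α hα))
  have h := op_openCH hXs hYs (d a) (piece s T a) t u u' hu₂ hu'₂ hw hd hd' k
    (ChowOps.cl (openRes (iotaY s T a) α) (mem_Zk_openRes _ (compat_iotaY s T a) hα))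
  rw [glueOp_rep s hdisj hcov hX hY d T k hα e a, openCH_cl, openCH_cl] at h
  show glueOp s hX hY d hdisj hcov T k (ChowOps.cl α hα) = (d a).op t k (ChowOps.cl α hα)
  rw [← e]
  refine ((congrArg _ (Bivar.cl_congr (DFunLike.ext _ _ fun z => ?_) _ _)).trans (h.trans
    (Bivar.cl_congr (DFunLike.ext _ _ fun z => ?_) _ _))).symm
  · show α z = α (iotaY s T a (u z))
    rw [← Scheme.Hom.comp_apply, hu₁]; rfl
  · show β (iotaX s T a (u' z)) = β z
    rw [← Scheme.Hom.comp_apply, hu'₁]; rfl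

end Pieces

end Groth.Agent.BivarLib
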