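import Groth.Agent.BivarLib.Disjoint
import Groth.Agent.ASp.FiniteCoprod
import Groth.Agent.StratX.Quot
import Groth.Agent.S6482

/-!
# Bivariant classes are detected on prime cycles
-/

set_option autoImplicit false
set_option backward.isDefEq.respectTransparency false
set_option linter.style.haveILetI false

universe u

open CategoryTheory CategoryTheory.Limits AlgebraicGeometry Topology

noncomputable section

namespace Groth.Agent.BivarLib

open CycLib

/-- The cycle supported at a point. -/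
def pointCycle {X : Scheme.{u}} (x : X) (n : ℤ) : AlgebraicCycle X ℤ where
  toFun z := haveI := Classical.propDecidable (z = x); if z = x then n else 0
  supportWithinDomain' := Set.subset_univ _
  supportLocallyFiniteWithinDomain' z _ := by
    refine ⟨Set.univ, Filter.univ_mem, (Set.finite_singleton x).subset fun w hw => ?_⟩
    by_contra h
    exact hw.2 (if_neg h)

theorem pointCycle_self {X : Scheme.{u}} (x : X) (n : ℤ) : pointCycle x n x = n := if_pos rfl

theorem pointCycle_ne {X : Scheme.{u}} {x z : X} (n : ℤ) (h : z ≠ x) : pointCycle x n z = 0 := if_neg h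

theorem mem_Zk_point {X : Scheme.{u}} {δ : X → ℤ} (x : X) (n : ℤ) {k : ℤ} (h : n ≠ 0 → δ x = k) :
    pointCycle x n ∈ Cyc.Zk X δ k := fun z hz => by
  by_cases e : z = x
  · subst e
    rw [pointCycle_self]
    exact by_contra fun hn => hz (h hn)
  · exact pointCycle_ne n e

/-- A locally finite family of closed subschemes has finite union map. -/
theorem isFinite_sigmaDesc_closed {Y : Scheme.{u}} {I : Type u} (W : I → Scheme.{u}) (f : ∀ a, W a ⟶ Y)
    [∀ a, IsClosedImmersion (f a)] (hfin : ∀ U : Y.Opens, IsAffineOpen U → {a | (Set.range (f a) ∩ U).Nonempty}.Finite) :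
    IsFinite (Sigma.desc f) := by
  rw [IsZariskiLocalAtTarget.iff_of_openCover (P := @IsFinite) (Y.openCoverOfIsOpenCover _ (iSup_affineOpens_eq_top Y))]
  intro U
  show IsFinite (pullback.snd (Sigma.desc f) U.1.ι)
  let G := {a : I // (Set.range (f a) ∩ (U.1 : Set Y)).Nonempty}
  haveI : Finite G := (hfin U.1 U.2).to_subtype
  let P := pullback (Sigma.desc f) U.1.ι
  let e : (g : G) → pullback (f g.1) U.1.ι ⟶ P := fun g =>
    pullback.lift (pullback.fst _ _ ≫ Sigma.ι W g.1) (pullback.snd _ _)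
      (by rw [Category.assoc, Sigma.ι_desc, pullback.condition])
  have sq : ∀ g : G, IsPullback (e g) (pullback.fst (f g.1) U.1.ι) (pullback.fst (Sigma.desc f) U.1.ι) (Sigma.ι W g.1) :=
    fun g => (IsPullback.of_bot (h₁₁ := pullback.fst (f g.1) U.1.ι) (v₁₁ := e g) (v₁₂ := Sigma.ι W g.1)
      (h₂₁ := pullback.fst (Sigma.desc f) U.1.ι) (v₂₁ := pullback.snd (Sigma.desc f) U.1.ι) (h₃₁ := U.1.ι)
      (v₂₂ := Sigma.desc f)
      (by rw [pullback.lift_snd, Sigma.ι_desc]; exact IsPullback.of_hasPullback (f g.1) U.1.ι)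
      (pullback.lift_fst _ _ _).symm (IsPullback.of_hasPullback _ _)).flip
  haveI : ∀ g, IsOpenImmersion (e g) := fun g => MorphismProperty.of_isPullback (sq g).flip inferInstance
  have hr : ∀ g, Set.range (e g) = pullback.fst (Sigma.desc f) U.1.ι ⁻¹' Set.range (Sigma.ι W g.1) := fun g => by
    apply Set.eq_of_subset_of_subset
    · rintro _ ⟨z, rfl⟩
      exact ⟨pullback.fst (f g.1) U.1.ι z, by rw [← Scheme.Hom.comp_apply, ← (sq g).w, Scheme.Hom.comp_apply]⟩
    · rintro p ⟨w, hw⟩
      obtain ⟨z, hz, -⟩ := Scheme.exists_preimage_of_isPullback (sq g) p w hw.symm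
      exact ⟨z, hz⟩
  haveI : IsOpenImmersion (Sigma.desc e) := isOpenImmersion_sigmaDesc _ _ fun a b hab => by
    show Disjoint (Set.range (e a)) (Set.range (e b))
    rw [hr, hr, Set.disjoint_left]
    rintro p ⟨x, hx⟩ ⟨y, hy⟩
    exact hab (Subtype.ext (congrArg Sigma.fst ((sigmaι_eq_iff W _ _ _ _).1 (hx.trans hy.symm))))
  haveI : Surjective (Sigma.desc e) := ⟨fun p => by
    obtain ⟨⟨a, w⟩, hw⟩ := (sigmaMk W).surjective (pullback.fst (Sigma.desc f) U.1.ι p)
    rw [sigmaMk_mk] at hw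
    have hne : (Set.range (f a) ∩ (U.1 : Set Y)).Nonempty := by
      refine ⟨f a w, ⟨w, rfl⟩, ?_⟩
      have : f a w = U.1.ι (pullback.snd (Sigma.desc f) U.1.ι p) := by
        rw [← Scheme.Hom.comp_apply, ← pullback.condition, Scheme.Hom.comp_apply, ← hw, ← Scheme.Hom.comp_apply,
          Sigma.ι_desc]
      rw [this]
      exact (pullback.snd (Sigma.desc f) U.1.ι p).2
    obtain ⟨z, rfl⟩ : p ∈ Set.range (e ⟨a, hne⟩) := by rw [hr]; exact ⟨w, hw⟩
    exact ⟨Sigma.ι (fun g : G => pullback (f g.1) U.1.ι) ⟨a, hne⟩ z, by rw [← Scheme.Hom.comp_apply, Sigma.ι_desc]⟩⟩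
  haveI : IsIso (Sigma.desc e) := isIso_of_isOpenImmersion_of_opensRange_eq_top _
    (TopologicalSpace.Opens.ext (Set.range_eq_univ.2 (Sigma.desc e).surjective))
  rw [← MorphismProperty.cancel_left_of_respectsIso @IsFinite (Sigma.desc e)]
  have he : Sigma.desc e ≫ pullback.snd (Sigma.desc f) U.1.ι = Sigma.desc fun g : G => pullback.snd (f g.1) U.1.ι :=
    Sigma.hom_ext _ _ fun g => by rw [← Category.assoc, Sigma.ι_desc, Sigma.ι_desc, pullback.lift_snd]
  rw [he]
  exact StratX.isFinite_sigmaDesc' _ _ fun g => inferInstance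

/-- A cycle lifts along a map with trivial residue extensions over its support. -/
theorem exists_lift_cycle {X Y : Scheme.{u}} (f : Y ⟶ X) [IsProper f] {δY : Y → ℤ} {δ : X → ℤ}
    (hδ : Cyc.DeltaCompat f δY δ) {k : ℤ} (α : AlgebraicCycle X ℤ) (hα : α ∈ Cyc.Zk X δ k)
    (σ : {x : X // α x ≠ 0} → Y) (hσ : ∀ x, f (σ x) = x.1)
    (hres : ∀ x, Function.Surjective (f.residueFieldMap (σ x)).hom) :
    ∃ β : AlgebraicCycle Y ℤ, β ∈ Cyc.Zk Y δY k ∧ AlgebraicCycle.map f δY δ β = α ∧
      ∀ y, β y ≠ 0 → ∃ h : α (f y) ≠ 0, σ ⟨f y, h⟩ = y := by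
  classical
  let F : Y → ℤ := fun y => if ∃ h : α (f y) ≠ 0, σ ⟨f y, h⟩ = y then α (f y) else 0
  have hF : ∀ y, F y ≠ 0 → ∃ h : α (f y) ≠ 0, σ ⟨f y, h⟩ = y := fun y hy => by
    by_contra hc
    exact hy (if_neg hc)
  let β : AlgebraicCycle Y ℤ :=
    { toFun := F
      supportWithinDomain' := Set.subset_univ _
      supportLocallyFiniteWithinDomain' := fun y _ => by
        obtain ⟨t, ht, hfin⟩ := α.supportLocallyFiniteWithinDomain' (f y) trivial
        refine ⟨(fun z => f z) ⁻¹' t, f.continuous.continuousAt ht,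
          ((hfin.preimage (f := fun x : {x : X // α x ≠ 0} => x.1) Subtype.val_injective.injOn).image σ).subset ?_⟩
        rintro z ⟨hz, hz'⟩
        obtain ⟨h, e⟩ := hF z hz'
        exact ⟨⟨f z, h⟩, ⟨hz, h⟩, e⟩ }
  refine ⟨β, fun y hy => ?_, DFunLike.ext _ _ fun x => ?_, hF⟩
  · by_contra hne
    obtain ⟨h, e⟩ := hF y hne
    refine h (hα _ fun hk => hy ?_)
    rw [← hk]
    exact S6482.delta_eq f δY δ hδ y (by rw [← e]; exact hres _)
  · show ∑ᶠ y ∈ (fun y => f y) ⁻¹' {x}, F y * ((AlgebraicCycle.mapCoeff f δY δ y : ℕ) : ℤ) = α x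
    by_cases hx : α x = 0
    · rw [hx]
      refine finsum_mem_eq_zero_of_forall_eq_zero fun y (hy : f y = x) => ?_
      rw [show F y = 0 from if_neg fun hh => hh.1 (hy ▸ hx), zero_mul]
    · rw [finsum_eq_single _ (σ ⟨x, hx⟩) (fun y hy => ?_)]
      · rw [finsum_eq_if, if_pos (show σ ⟨x, hx⟩ ∈ (fun y => f y) ⁻¹' {x} from hσ _)]
        rw [AlgebraicCycle.mapCoeff, if_pos (S6482.delta_eq f δY δ hδ _ (hres _)),
          S6482.residueDegree_eq_one f _ (hres _), show F (σ ⟨x, hx⟩) = α x from ?_]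
        · simp
        · have hs := hσ ⟨x, hx⟩
          show (if _ then _ else _) = _
          rw [if_pos ⟨by rw [hs]; exact hx, congrArg σ (Subtype.ext hs)⟩, hs]
      · rw [finsum_eq_if]
        split_ifs with h
        · rw [show F y = 0 from if_neg fun hh => hy (by
            obtain ⟨h', e⟩ := hh
            rw [← e]
            exact congrArg σ (Subtype.ext (show f y = x from h))), zero_mul]
        · rfl

section Along

variable {X Y : Scheme.{u}} {δX : X → ℤ} {δY : Y → ℤ} {f : X ⟶ Y}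

/-- The square over a morphism to a test scheme. -/
def sqAlong (s : Bivar.Sq f δX δY) {T : Scheme.{u}} (ν : T ⟶ s.Y') [LocallyOfFiniteType ν] : Bivar.Sq f δX δY where
  Y' := T
  X' := pullback s.f' ν
  g := ν ≫ s.g
  f' := pullback.snd s.f' ν
  g' := pullback.fst s.f' ν ≫ s.g'
  isPullback := (IsPullback.of_hasPullback s.f' ν).flip.paste_vert s.isPullback
  lft := by haveI := s.lft; infer_instance
  δY' := (exists_delta ν s.δY').choose
  δX' :=
    haveI : LocallyOfFiniteType (pullback.fst s.f' ν) := MorphismProperty.pullback_fst _ _ inferInstance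
    (exists_delta (pullback.fst s.f' ν) s.δX').choose
  compatY := Bivar.deltaCompat_comp _ _ _ _ _ (exists_delta ν s.δY').choose_spec s.compatY
  compatX :=
    haveI : LocallyOfFiniteType (pullback.fst s.f' ν) := MorphismProperty.pullback_fst _ _ inferInstance
    Bivar.deltaCompat_comp _ _ _ _ _ (exists_delta (pullback.fst s.f' ν) s.δX').choose_spec s.compatX

theorem compat_along (s : Bivar.Sq f δX δY) {T : Scheme.{u}} (ν : T ⟶ s.Y') [LocallyOfFiniteType ν] :
    Cyc.DeltaCompat ν (sqAlong s ν).δY' s.δY' := (exists_delta ν s.δY').choose_spec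

theorem compat_along' (s : Bivar.Sq f δX δY) {T : Scheme.{u}} (ν : T ⟶ s.Y') [LocallyOfFiniteType ν] :
    Cyc.DeltaCompat (pullback.fst s.f' ν) (sqAlong s ν).δX' s.δX' :=
  haveI : LocallyOfFiniteType (pullback.fst s.f' ν) := MorphismProperty.pullback_fst _ _ inferInstance
  (exists_delta (pullback.fst s.f' ν) s.δX').choose_spec

variable (hX : Cyc.IsSetup X δX) (hY : Cyc.IsSetup Y δY) {p : ℤ} (c : Bivar.Cl p f δX δY)

include hX hY in
theorem op_eq_zero_of_birational
    (h3 : ∀ (s : Bivar.Sq f δX δY) [AlgebraicGeometry.IsIntegral s.Y'], ∃ (t : Bivar.Sq s.f' s.δX' s.δY')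
      (_ : IrreducibleSpace t.Y') (_ : IsProper t.g), t.g (genericPoint t.Y') = genericPoint s.Y' ∧
        IsIso (t.g.stalkMap (genericPoint t.Y')) ∧
        ∀ (k : ℤ) (α : AlgebraicCycle t.Y' ℤ) (hα : α ∈ Cyc.Zk t.Y' t.δY' k), α (genericPoint t.Y') = 1 →
          (∀ y : t.Y', y ≠ genericPoint t.Y' → α y = 0) → c.op (s.paste t) k (ChowOps.cl α hα) = 0)
    (s : Bivar.Sq f δX δY) [AlgebraicGeometry.IsIntegral s.Y'] (k : ℤ) (γ : AlgebraicCycle s.Y' ℤ)
    (hγ : γ ∈ Cyc.Zk s.Y' s.δY' k) (hγ0 : ∀ y, y ≠ genericPoint s.Y' → γ y = 0) :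
    c.op s k (ChowOps.cl γ hγ) = 0 := by
  rcases eq_or_ne (γ (genericPoint s.Y')) 0 with h0 | h0
  · have e : γ = 0 := DFunLike.ext _ _ fun y => by
      by_cases hy : y = genericPoint s.Y'
      · rw [hy]; exact h0
      · exact hγ0 y hy
    rw [Bivar.cl_congr e hγ (ChowOps.zk s.Y' s.δY' k).zero_mem]
    exact map_zero _
  obtain ⟨t, ht, hp, hgen, hiso, hvan⟩ := h3 s
  haveI := ht
  haveI := hp
  haveI := hiso
  have hres : Function.Surjective (t.g.residueFieldMap (genericPoint t.Y')).hom := fun b => by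
    obtain ⟨b, rfl⟩ := IsLocalRing.residue_surjective b
    obtain ⟨a, ha⟩ := (ConcreteCategory.bijective_of_isIso (t.g.stalkMap (genericPoint t.Y'))).2 b
    exact ⟨IsLocalRing.residue _ a, by rw [← ha]; rfl⟩
  have hgen' : ∀ y : s.Y', γ y ≠ 0 → y = genericPoint s.Y' := fun y hy => by_contra fun h => hy (hγ0 y h)
  obtain ⟨β, hβ, hmap, hsupp⟩ := exists_lift_cycle t.g t.compatY γ hγ (fun _ => genericPoint t.Y')
    (fun x => hgen.trans (hgen' x.1 x.2).symm) fun _ => hres
  have hβ0 : ∀ y : t.Y', y ≠ genericPoint t.Y' → β y = 0 := fun y hy => by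
    by_contra hne
    obtain ⟨h, e⟩ := hsupp y hne
    exact hy e.symm
  have hδ : t.δY' (genericPoint t.Y') = k := by
    rw [S6482.delta_eq t.g t.δY' s.δY' t.compatY _ hres, hgen]
    by_contra hne
    exact h0 (hγ _ hne)
  have hv := hvan k (pointCycle (genericPoint t.Y') 1) (mem_Zk_point _ _ fun _ => hδ) (pointCycle_self _ _)
    (fun y hy => pointCycle_ne _ hy)
  have hb : ChowOps.cl β hβ = (β (genericPoint t.Y')) •
      ChowOps.cl (pointCycle (genericPoint t.Y') 1) (mem_Zk_point _ _ fun _ => hδ) := by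
    refine (Bivar.cl_congr (β := β (genericPoint t.Y') • pointCycle (genericPoint t.Y') 1) (DFunLike.ext _ _ fun y => ?_)
      _ ((ChowOps.zk t.Y' t.δY' k).zsmul_mem (mem_Zk_point _ _ fun _ => hδ) _)).trans
      (map_zsmul (ChowOps.clHom t.Y' t.δY' k) _ (⟨_, mem_Zk_point (genericPoint t.Y') 1 fun _ => hδ⟩ :
        ↥(ChowOps.zk t.Y' t.δY' k)))
    by_cases hy : y = genericPoint t.Y'
    · subst hy
      simp [pointCycle_self]
    · simp [pointCycle_ne _ hy, hβ0 y hy]
  haveI : IsProper t.g' := MorphismProperty.of_isPullback t.isPullback (inferInstance : IsProper t.g)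
  have h := op_pushCH hX hY c s (s.paste t) t.g t.g' rfl t.isPullback.w.symm rfl t.compatY t.compatX k
    (ChowOps.cl β hβ)
  rw [pushCH_cl, Bivar.cl_congr hmap _ hγ] at h
  rw [h, hb, map_zsmul]
  erw [hv]
  rw [zsmul_zero, map_zero]

include hX hY in
/-- A class killing the prime cycles of integral test schemes is zero. -/
theorem eq_zero_of_prime
    (h : ∀ (s : Bivar.Sq f δX δY) [AlgebraicGeometry.IsIntegral s.Y'] (k : ℤ) (γ : AlgebraicCycle s.Y' ℤ)
      (hγ : γ ∈ Cyc.Zk s.Y' s.δY' k), (∀ y, y ≠ genericPoint s.Y' → γ y = 0) → c.op s k (ChowOps.cl γ hγ) = 0) :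
    c = 0 := by
  classical
  refine Bivar.Cl.ext (funext fun s => funext fun k => AddMonoidHom.ext fun x => ?_)
  obtain ⟨α, hα, rfl⟩ := Bivar.exists_rep x
  show c.op s k (ChowOps.cl α hα) = 0
  haveI := (isSetup_Y' hY s).1
  let I := {y : s.Y' // α y ≠ 0}
  let C : I → TopologicalSpace.Closeds s.Y' := fun a => ⟨closure {a.1}, isClosed_closure⟩
  let W : I → Scheme.{u} := fun a => (Scheme.IdealSheafData.vanishingIdeal (C a)).subscheme
  let i : (a : I) → W a ⟶ s.Y' := fun a => (Scheme.IdealSheafData.vanishingIdeal (C a)).subschemeι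
  haveI : ∀ a, IsIntegral (W a) := fun a =>
    CurveLib.isIntegral_vanishingIdeal isClosed_closure isIrreducible_singleton.closure
  have hri : ∀ a, Set.range (i a) = closure {a.1} := fun a => by
    rw [Scheme.IdealSheafData.range_subschemeι, Scheme.IdealSheafData.coe_support_vanishingIdeal]
    rfl
  have hgi : ∀ a, i a (genericPoint (W a)) = a.1 := fun a => by
    refine ((genericPoint_spec (W a)).image (i a).continuous).eq ?_
    rw [Set.image_univ, hri, closure_closure]
    exact isGenericPoint_closure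
  let ν : ∐ W ⟶ s.Y' := Sigma.desc i
  haveI : IsFinite ν := isFinite_sigmaDesc_closed W i fun U hU => by
    have hfin := α.locallyFiniteSupport.finite_inter_support_of_isCompact hU.isCompact
    refine (hfin.preimage (f := fun a : I => a.1) Subtype.val_injective.injOn).subset ?_
    rintro a ⟨y, hy, hyU⟩
    rw [hri, ← specializes_iff_mem_closure] at hy
    exact ⟨hy.mem_open U.2 hyU, a.2⟩
  let sT := sqAlong s ν
  have hresT : ∀ a : I, Function.Surjective (ν.residueFieldMap (Sigma.ι W a (genericPoint (W a)))).hom := fun a => by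
    have h1 : ∀ r : W a ⟶ s.Y', r = i a → Function.Surjective (r.residueFieldMap (genericPoint (W a))).hom := by
      rintro _ rfl
      exact (bijective_residueFieldMap (i a) _).2
    have h2 := h1 (Sigma.ι W a ≫ ν) (Sigma.ι_desc _ _)
    rw [Scheme.residueFieldMap_comp] at h2
    intro b
    obtain ⟨c, hc⟩ := h2 (((Sigma.ι W a).residueFieldMap (genericPoint (W a))).hom b)
    exact ⟨c, ((Sigma.ι W a).residueFieldMap (genericPoint (W a))).hom.injective hc⟩
  obtain ⟨β, hβ, hmap, hsupp⟩ := exists_lift_cycle ν (compat_along s ν) α hα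
    (fun a => Sigma.ι W a (genericPoint (W a)))
    (fun a => by rw [← Scheme.Hom.comp_apply, Sigma.ι_desc]; exact hgi a) hresT
  haveI : IsProper (pullback.fst s.f' ν) := MorphismProperty.pullback_fst _ _ (inferInstance : IsProper ν)
  have hpush := op_pushCH hX hY c s sT ν (pullback.fst s.f' ν) rfl pullback.condition rfl (compat_along s ν)
    (compat_along' s ν) k (ChowOps.cl β hβ)
  rw [pushCH_cl, Bivar.cl_congr hmap _ hα] at hpush
  rw [hpush]
  suffices hz : c.op sT k (ChowOps.cl β hβ) = 0 by rw [hz, map_zero]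
  have hT : Cyc.IsSetup sT.X' sT.δX' := isSetup_X' hX sT
  refine openCH_ext (fun a : I => pullback.fst sT.f' (Sigma.ι W a)) (fun a b hab => ?_) (fun x => ?_) hT
    (δU := fun a => (sqAlong sT (Sigma.ι W a)).δX') (fun a => compat_along' sT (Sigma.ι W a)) fun a => ?_
  · rw [Scheme.Pullback.range_fst, Scheme.Pullback.range_fst]
    refine Disjoint.preimage _ (Set.disjoint_left.2 ?_)
    rintro p ⟨x, hx⟩ ⟨y, hy⟩
    exact hab (congrArg Sigma.fst ((sigmaι_eq_iff W _ _ _ _).1 (hx.trans hy.symm)))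
  · obtain ⟨⟨a, w⟩, hw⟩ := (sigmaMk W).surjective (sT.f' x)
    rw [sigmaMk_mk] at hw
    exact ⟨a, by rw [Scheme.Pullback.range_fst]; exact ⟨w, hw⟩⟩
  rw [map_zero]
  refine (op_openCH hX hY c sT (sqAlong sT (Sigma.ι W a)) (Sigma.ι W a) (pullback.fst sT.f' (Sigma.ι W a)) rfl
    pullback.condition rfl (compat_along sT _) (compat_along' sT _) k (ChowOps.cl β hβ)).symm.trans ?_
  rw [openCH_cl]
  haveI : IsIntegral (sqAlong sT (Sigma.ι W a)).Y' := inferInstanceAs (IsIntegral (W a))
  refine h _ k _ _ fun z hz => ?_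
  by_contra hne
  obtain ⟨h', e⟩ := hsupp _ hne
  have key : ∀ b : I, (Sigma.mk b (genericPoint (W b)) : Σ b, W b) = Sigma.mk a z → z = genericPoint (W a) := by
    intro b hb
    cases hb
    rfl
  exact hz (key _ ((sigmaι_eq_iff W _ _ _ _).1 e))

end Along

end Groth.Agent.BivarLib
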