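import Groth.Agent.BivarLib.GysinCompat
import Groth.Agent.CycLib.Chern.Pull
import Groth.Agent.S1859

/-!
# Proper push forward of bivariant classes
-/

set_option autoImplicit false
set_option backward.isDefEq.respectTransparency false
set_option linter.style.haveILetI false

universe u

open CategoryTheory CategoryTheory.Limits AlgebraicGeometry

noncomputable section

namespace Groth.Agent.BivarLib

open CycLib

section General

variable {S T D P : Scheme.{u}}

theorem cycMap_id (δ : T → ℤ) (α : AlgebraicCycle T ℤ) : AlgebraicCycle.map (𝟙 T) δ δ α = α := by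
  ext z
  have h := map_closed_apply (𝟙 T) (δ := δ) α z
  simpa using h

/-- Relative dimension is stable under base change. -/
theorem hasRelDim_baseChange {g' : P ⟶ T} {h' : P ⟶ D} {h : T ⟶ S} {g : D ⟶ S} (sq : IsPullback g' h' h g)
    [LocallyOfFiniteType h] (c : ℕ) (hc : Cyc.HasRelDim h c) : Cyc.HasRelDim h' c := fun x => by
  haveI : LocallyOfFiniteType (Y := Spec (CommRingCat.of (S.residueField (g x)))) (h.fiberToSpecResidueField (g x)) :=
    MorphismProperty.pullback_snd (P := @LocallyOfFiniteType) _ _ inferInstance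
  exact LocDimBC.dim_component_fieldExtension (k := S.residueField (g x)) (K := D.residueField x)
    (isPullback_fiberToSpecResidueField_of_isPullback sq x) c (hc (g x))

variable {h : T ⟶ S} {i : D ⟶ S} [IsClosedImmersion i] {j : P ⟶ T} [IsClosedImmersion j] {g : P ⟶ D}

/-- Gysin maps commute with proper push forward on classes. -/
theorem gysinCH_pushCH (sq : IsPullback j g h i) [IsProper h] [IsProper g] {δT : T → ℤ} {δS : S → ℤ} {δP : P → ℤ} {δD : D → ℤ}
    (hT : Cyc.IsSetup T δT) (hS : Cyc.IsSetup S δS) (hd : Cyc.DeltaCompat h δT δS) (hdP : Cyc.DeltaCompat j δP δT)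
    (hdD : Cyc.DeltaCompat i δD δS) {L : S.Modules} (hL : PicF.IsInvertible L) {σ : L.presheaf.obj (Opposite.op ⊤)}
    (hσ : Cyc.IsZeroSchemeOf i L σ) {w : (ξ : S) → Cyc.secFibre L ξ} (hw : ∀ ξ, w ξ ≠ 0) {M : T.Modules}
    (hM : PicF.IsInvertible M) (e : (Scheme.Modules.pullback h).obj L ≅ M) (τ : M.presheaf.obj (Opposite.op ⊤))
    (hτ : Cyc.IsZeroSchemeOf j M τ) {v : (ξ : T) → Cyc.secFibre M ξ} (hv : ∀ ξ, v ξ ≠ 0) {k : ℤ}
    (β : AlgebraicCycle T ℤ) (hβ : β ∈ Cyc.Zk T δT k) (γ : AlgebraicCycle P ℤ) (hγ : γ ∈ Cyc.Zk P δP (k - 1))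
    (hγc : ∀ z, γ z = Cyc.c1CapFun δT M ⇑β (Cyc.gysinChoice M τ v) (j z)) (hP : Cyc.IsSetup P δP)
    (hD : Cyc.IsSetup D δD) (hdg : Cyc.DeltaCompat g δP δD) :
    gysinCH hS i hdD hL σ hσ hw k (ChowOps.cl (AlgebraicCycle.map h δT δS β) (Bivar.cycMap_mem_Zk h δT δS k hβ)) =
      ChowOps.cl (AlgebraicCycle.map g δP δD γ) (Bivar.cycMap_mem_Zk g δP δD (k - 1) hγ) := by
  haveI := hT.1
  haveI := hS.1
  obtain rfl := delta_unique hdP (CycLib.deltaCompat_preimmersion j δT)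
  obtain rfl := delta_unique hdD (CycLib.deltaCompat_preimmersion i δS)
  have hLh := AmpleLib.isInvertible_pullback h hL
  let Γ := c1Cycle hT.2.2 hLh β fun ξ => pullFib h L ξ (Cyc.gysinChoice L σ w (h ξ))
  let β₀ := restrictCycle j Γ
  have hβ₀ : β₀ ∈ Cyc.Zk P (fun z => δT (j z)) (k - 1) := mem_Zk_gysin j hdP hβ fun _ => rfl
  have h1 : ChowOps.cl γ hγ = ChowOps.cl β₀ hβ₀ :=
    (gysinCH_cl hT j hdP hM τ hτ hv β hβ γ hγc hγ).symm.trans
      (gysinCH_pullFib sq hT inferInstance hL hσ hw hdP hM e τ hτ hv β hβ β₀ (fun _ => rfl) hβ₀)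
  have h2 := congrArg (pushCH g hP hD hdg (k - 1)) h1
  rw [pushCH_cl, pushCH_cl] at h2
  rw [h2]
  refine gysinCH_cl _ _ _ _ _ _ _ _ _ _ (fun d => ?_) _
  have hsupp : ∀ x, Γ x ≠ 0 → x ∈ Set.range j := fun x hx => by
    obtain ⟨ξ, hξ⟩ := exists_ne_zero_finsum hx
    exact mem_range_square sq (mem_range_pull h hT.2.2 hL hσ (right_ne_zero_of_mul hξ))
  rw [map_restrictCycle sq Γ hsupp d]
  exact map_c1Cap_pullFib h hT hS hd hL β _ (gysinChoice_ne_zero hw) Γ (fun _ => rfl) _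

end General

variable {X Y Z : Scheme.{u}} {δX : X → ℤ} {δY : Y → ℤ} {δZ : Z → ℤ} (hX : Cyc.IsSetup X δX) (hY : Cyc.IsSetup Y δY)
  (hZ : Cyc.IsSetup Z δZ) {f : X ⟶ Y} [IsProper f] {g : Y ⟶ Z} (hδf : Cyc.DeltaCompat f δX δY)
  {p : ℤ} (c : Bivar.Cl p (f ≫ g) δX δZ)

theorem lft_snd (s : Bivar.Sq g δY δZ) : LocallyOfFiniteType (pullback.snd s.g' f) :=
  MorphismProperty.pullback_snd _ _ (lft_g' s)

/-- The dimension function on the fibre product. -/
def δP (δX : X → ℤ) (s : Bivar.Sq g δY δZ) : ↥(pullback s.g' f) → ℤ :=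
  haveI := lft_snd (f := f) s
  (exists_delta (pullback.snd s.g' f) δX).choose

theorem compat_δP (s : Bivar.Sq g δY δZ) : Cyc.DeltaCompat (pullback.snd s.g' f) (δP δX s) δX :=
  haveI := lft_snd (f := f) s
  (exists_delta (pullback.snd s.g' f) δX).choose_spec

/-- The square over the composite. -/
abbrev sqFG (f : X ⟶ Y) [IsProper f] (δX : X → ℤ) (s : Bivar.Sq g δY δZ) : Bivar.Sq (f ≫ g) δX δZ :=
  ⟨s.Y', pullback s.g' f, s.g, pullback.fst s.g' f ≫ s.f', pullback.snd s.g' f,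
    (IsPullback.of_hasPullback s.g' f).paste_horiz s.isPullback, s.lft, s.δY', δP δX s, s.compatY, compat_δP s⟩

include hδf in
theorem compat_fst (s : Bivar.Sq g δY δZ) : Cyc.DeltaCompat (pullback.fst s.g' f) (δP δX s) s.δX' :=
  deltaCompat_of_comp (pullback.fst s.g' f) s.g'
    (by rw [pullback.condition]; exact Bivar.deltaCompat_comp _ f _ _ _ (compat_δP s) hδf) s.compatX

include hX in
theorem isSetup_P (s : Bivar.Sq g δY δZ) : Cyc.IsSetup (pullback s.g' f) (δP δX s) := by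
  haveI := lft_snd (f := f) s
  exact CycLib.isSetup_of_lft (pullback.snd s.g' f) hX (compat_δP s)

/-- The comparison of fibre products. -/
def hP (s t : Bivar.Sq g δY δZ) (h' : t.X' ⟶ s.X') (w₃ : h' ≫ s.g' = t.g') : pullback t.g' f ⟶ pullback s.g' f :=
  pullback.lift (pullback.fst t.g' f ≫ h') (pullback.snd t.g' f) (by rw [Category.assoc, w₃, pullback.condition])

theorem hP_fst (s t : Bivar.Sq g δY δZ) (h' : t.X' ⟶ s.X') (w₃ : h' ≫ s.g' = t.g') :
    hP (f := f) s t h' w₃ ≫ pullback.fst s.g' f = pullback.fst t.g' f ≫ h' := pullback.lift_fst _ _ _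

theorem hP_snd (s t : Bivar.Sq g δY δZ) (h' : t.X' ⟶ s.X') (w₃ : h' ≫ s.g' = t.g') :
    hP (f := f) s t h' w₃ ≫ pullback.snd s.g' f = pullback.snd t.g' f := pullback.lift_snd _ _ _

theorem sq_hP (s t : Bivar.Sq g δY δZ) (h' : t.X' ⟶ s.X') (w₃ : h' ≫ s.g' = t.g') :
    IsPullback (hP (f := f) s t h' w₃) (pullback.fst t.g' f) (pullback.fst s.g' f) h' :=
  IsPullback.of_right (by rw [hP_snd, w₃]; exact (IsPullback.of_hasPullback t.g' f).flip) (hP_fst s t h' w₃)
    (IsPullback.of_hasPullback s.g' f).flip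

/-- The class `f_* ∘ c`. -/
def properPushClass : Bivar.Cl p g δY δZ where
  op s k := (pushCH (pullback.fst s.g' f) (isSetup_P hX s) (isSetup_X' hY s) (compat_fst hδf s) (k - p)).comp
    (c.op (sqFG f δX s) k)
  push s t h _ h' _ w₁ w₂ w₃ k := by
    haveI : IsProper (hP (f := f) s t h' w₃) :=
      MorphismProperty.of_isPullback (sq_hP s t h' w₃).flip (inferInstance : IsProper h')
    have hd' : Cyc.DeltaCompat h' t.δX' s.δX' := deltaCompat_of_comp h' s.g' (by rw [w₃]; exact t.compatX) s.compatX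
    have hdP : Cyc.DeltaCompat (hP (f := f) s t h' w₃) (δP δX t) (δP δX s) :=
      deltaCompat_of_comp _ (pullback.snd s.g' f) (by rw [hP_snd]; exact compat_δP t) (compat_δP s)
    intro α hα
    obtain ⟨β, hβ, e₁, e₂⟩ := c.push (sqFG f δX s) (sqFG f δX t) h (hP s t h' w₃) w₁
      (by show _ ≫ pullback.fst s.g' f ≫ s.f' = (pullback.fst t.g' f ≫ t.f') ≫ h
          rw [← Category.assoc, hP_fst, Category.assoc, w₂, Category.assoc])
      (hP_snd s t h' w₃) k α hα
    refine ⟨AlgebraicCycle.map (pullback.fst t.g' f) (δP δX t) t.δX' β, Bivar.cycMap_mem_Zk _ _ _ _ hβ, ?_, ?_⟩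
    · exact congrArg (pushCH (pullback.fst t.g' f) (isSetup_P hX t) (isSetup_X' hY t) (compat_fst hδf t) (k - p)) e₁
    · refine (congrArg (pushCH (pullback.fst s.g' f) (isSetup_P hX s) (isSetup_X' hY s) (compat_fst hδf s) (k - p)) e₂).trans ?_
      refine Bivar.cl_congr ?_ _ _
      have a₁ := S1859.result _ _ _ (δP δX t) (δP δX s) s.δX' (isSetup_P hX t) (isSetup_P hX s) (isSetup_X' hY s)
        (hP (f := f) s t h' w₃) (pullback.fst s.g' f) hdP (compat_fst hδf s) (k - p) β hβ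
      have a₂ := S1859.result _ _ _ (δP δX t) t.δX' s.δX' (isSetup_P hX t) (isSetup_X' hY t) (isSetup_X' hY s)
        (pullback.fst t.g' f) h' (compat_fst hδf t) hd' (k - p) β hβ
      refine a₁.trans (Eq.trans ?_ a₂.symm)
      congr 1
      exact hP_fst s t h' w₃
  pull s t h _ h' _ r hr hr' w₁ w₂ w₃ k := by
    haveI := (isSetup_X' hY s).1
    haveI := (isSetup_X' hY t).1
    haveI : IsLocallyNoetherian (sqFG f δX s).X' := (isSetup_P hX s).1
    haveI : IsLocallyNoetherian (sqFG f δX t).X' := (isSetup_P hX t).1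
    haveI : IsLocallyNoetherian (pullback t.g' f) := (isSetup_P hX t).1
    haveI : LocallyOfFiniteType (h' ≫ s.g') := w₃ ▸ lft_g' t
    haveI := locallyOfFiniteType_of_comp h' s.g'
    haveI : Flat (hP (f := f) s t h' w₃) := MorphismProperty.of_isPullback (sq_hP s t h' w₃).flip (inferInstance : Flat h')
    haveI : LocallyOfFiniteType (hP (f := f) s t h' w₃) :=
      MorphismProperty.of_isPullback (sq_hP s t h' w₃).flip (inferInstance : LocallyOfFiniteType h')
    have hd' : Cyc.DeltaCompat h' t.δX' s.δX' := deltaCompat_of_comp h' s.g' (by rw [w₃]; exact t.compatX) s.compatX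
    have hdP : Cyc.DeltaCompat (hP (f := f) s t h' w₃) (δP δX t) (δP δX s) :=
      deltaCompat_of_comp _ (pullback.snd s.g' f) (by rw [hP_snd]; exact compat_δP t) (compat_δP s)
    have hrP : Cyc.HasRelDim (hP (f := f) s t h' w₃) r := hasRelDim_baseChange (sq_hP s t h' w₃).flip r hr'
    have hsh' : IsShift h' t.δX' s.δX' (r : ℤ) := IsShift.of_relDim (isSetup_X' hY t) (isSetup_X' hY s) r hr' hd'
    have hshP : IsShift (hP (f := f) s t h' w₃) (δP δX t) (δP δX s) (r : ℤ) :=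
      IsShift.of_relDim (isSetup_P hX t) (isSetup_P hX s) r hrP hdP
    intro α hα
    obtain ⟨β, hβ, e₁, H⟩ := c.pull (sqFG f δX s) (sqFG f δX t) h (hP s t h' w₃) r hr hrP w₁
      (by show _ ≫ pullback.fst s.g' f ≫ s.f' = (pullback.fst t.g' f ≫ t.f') ≫ h
          rw [← Category.assoc, hP_fst, Category.assoc, w₂, Category.assoc])
      (hP_snd s t h' w₃) k α hα
    refine ⟨AlgebraicCycle.map (pullback.fst s.g' f) (δP δX s) s.δX' β, Bivar.cycMap_mem_Zk _ _ _ _ hβ,
      congrArg (pushCH (pullback.fst s.g' f) (isSetup_P hX s) (isSetup_X' hY s) (compat_fst hδf s) (k - p)) e₁,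
      fun α₁ hc hα₁ => ?_⟩
    obtain ⟨β₁, hβ₁, hc₁, e₂⟩ := H α₁ hc hα₁
    refine ⟨AlgebraicCycle.map (pullback.fst t.g' f) (δP δX t) t.δX' β₁, Bivar.cycMap_mem_Zk _ _ _ _ hβ₁, ?_,
      congrArg (pushCH (pullback.fst t.g' f) (isSetup_P hX t) (isSetup_X' hY t) (compat_fst hδf t) (k + r - p)) e₂⟩
    exact map_pullFun (sq_hP s t h' w₃) (isSetup_X' hY t).2.2 (isSetup_P hX t).2.2 (compat_fst hδf s)
      (compat_fst hδf t) hsh' hshP β β₁ hc₁
  gysin s t i _ j _ w₁ w₂ w₃ L hL σ hσ τ hτ k := by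
    haveI : IsClosedImmersion (hP (f := f) s t j w₃) :=
      MorphismProperty.of_isPullback (sq_hP s t j w₃).flip (inferInstance : IsClosedImmersion j)
    have hdj : Cyc.DeltaCompat j t.δX' s.δX' := deltaCompat_of_comp j s.g' (by rw [w₃]; exact t.compatX) s.compatX
    have hdP : Cyc.DeltaCompat (hP (f := f) s t j w₃) (δP δX t) (δP δX s) :=
      deltaCompat_of_comp _ (pullback.snd s.g' f) (by rw [hP_snd]; exact compat_δP t) (compat_δP s)
    have hLs := AmpleLib.isInvertible_pullback s.f' hL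
    have hLP := AmpleLib.isInvertible_pullback (pullback.fst s.g' f ≫ s.f') hL
    let e := (Scheme.Modules.pullbackComp (pullback.fst s.g' f) s.f').app L
    let τP := e.hom.app ⊤ (pullSec (pullback.fst s.g' f) _ τ)
    have hτP : Cyc.IsZeroSchemeOf (hP (f := f) s t j w₃) ((Scheme.Modules.pullback (sqFG f δX s).f').obj L) τP :=
      isZeroSchemeOf_mapSec (AmpleLib.isInvertible_pullback (pullback.fst s.g' f) hLs) e _
        (isZeroSchemeOf_of_isPullback (pullback.fst s.g' f) hLs hτ (sq_hP s t j w₃))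
    intro α hα
    obtain ⟨β, hβ, e₁, H⟩ := c.gysin (sqFG f δX s) (sqFG f δX t) i (hP s t j w₃) w₁
      (by show _ ≫ pullback.fst s.g' f ≫ s.f' = (pullback.fst t.g' f ≫ t.f') ≫ i
          rw [← Category.assoc, hP_fst, Category.assoc, w₂, Category.assoc])
      (hP_snd s t j w₃) L hL σ hσ τP hτP k α hα
    haveI := (isSetup_X' hY s).1
    refine ⟨AlgebraicCycle.map (pullback.fst s.g' f) (δP δX s) s.δX' β, Bivar.cycMap_mem_Zk _ _ _ _ hβ,
      congrArg (pushCH (pullback.fst s.g' f) (isSetup_P hX s) (isSetup_X' hY s) (compat_fst hδf s) (k - p)) e₁,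
      fun w hw γ hγ hγk w' hw' => ?_⟩
    obtain ⟨ζP, hζP, hζc, e₂⟩ := H w hw γ hγ hγk (secs hLP) (secs_ne_zero hLP)
    let ζ := restrictCycle j (c1Cycle (isSetup_X' hY s).2.2 hLs
      (AlgebraicCycle.map (pullback.fst s.g' f) (δP δX s) s.δX' β) (Cyc.gysinChoice _ τ w'))
    have hζ : ζ ∈ Cyc.Zk t.X' t.δX' (k - p - 1) := mem_Zk_gysin j hdj (Bivar.cycMap_mem_Zk _ _ _ _ hβ) fun _ => rfl
    have e' : k - p - 1 = k - 1 - p := by ring
    refine ⟨ζ, e' ▸ hζ, fun _ => rfl, ?_⟩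
    refine (congrArg (pushCH (pullback.fst t.g' f) (isSetup_P hX t) (isSetup_X' hY t) (compat_fst hδf t) (k - 1 - p)) e₂).trans ?_
    have h1 := (gysinCH_pushCH (sq_hP s t j w₃) (isSetup_P hX s) (isSetup_X' hY s) (compat_fst hδf s) hdP hdj hLs hτ hw'
      hLP e τP hτP (secs_ne_zero hLP) β hβ ζP (e'.symm ▸ hζP) hζc (isSetup_P hX t) (isSetup_X' hY t)
      (compat_fst hδf t)).symm.trans (gysinCH_cl _ _ _ _ _ _ _ _ _ ζ (fun _ => rfl) hζ)
    have h2 := congrArg (Bivar.chCast t.X' t.δX' e') h1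
    rw [Bivar.chCast_cl, Bivar.chCast_cl] at h2
    exact h2

/-- The class `f_* ∘ c` computes on every fibre product. -/
theorem isProperPushClass : Bivar.IsProperPushClass f g c (properPushClass hX hY hδf c) := by
  refine ⟨inferInstance, hδf, fun s X' f' _ gX hp δX' hX' k α hα β hβ hc => ?_⟩
  let t : Bivar.Sq (f ≫ g) δX δZ :=
    ⟨s.Y', X', s.g, f' ≫ s.f', gX, hp.paste_horiz s.isPullback, s.lft, s.δY', δX', s.compatY, hX'⟩
  let θ := hp.isoPullback
  have hθ₁ : θ.hom ≫ pullback.fst s.g' f = f' := hp.isoPullback_hom_fst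
  have hθ₂ : θ.hom ≫ pullback.snd s.g' f = gX := hp.isoPullback_hom_snd
  have hdθ : Cyc.DeltaCompat θ.hom δX' (δP δX s) :=
    deltaCompat_of_comp θ.hom (pullback.snd s.g' f) (by rw [hθ₂]; exact hX') (compat_δP s)
  have ht : Cyc.IsSetup X' δX' := by
    haveI : LocallyOfFiniteType gX := MorphismProperty.of_isPullback hp (lft_g' s)
    exact CycLib.isSetup_of_lft gX hX hX'
  obtain ⟨β', hβ', e₁, e₂⟩ := c.push (sqFG f δX s) t (𝟙 _) θ.hom (Category.id_comp _)
    (by show θ.hom ≫ pullback.fst s.g' f ≫ s.f' = (f' ≫ s.f') ≫ 𝟙 _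
        rw [← Category.assoc, hθ₁, Category.comp_id])
    hθ₂ k α hα
  have e₃ : pushCH θ.hom ht (isSetup_P hX s) hdθ (k - p) (ChowOps.cl β hβ) = c.op (sqFG f δX s) k (ChowOps.cl α hα) := by
    rw [show ChowOps.cl β hβ = ChowOps.cl β' hβ' from hc.symm.trans e₁]
    exact e₂.symm.trans (congrArg _ (Bivar.cl_congr (cycMap_id s.δY' α) _ hα))
  refine (congrArg (pushCH (pullback.fst s.g' f) (isSetup_P hX s) (isSetup_X' hY s) (compat_fst hδf s) (k - p)) e₃.symm).trans ?_
  rw [pushCH_cl, pushCH_cl]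
  refine Bivar.cl_congr ?_ _ _
  rw [S1859.result _ _ _ δX' (δP δX s) s.δX' ht (isSetup_P hX s) (isSetup_X' hY s) θ.hom (pullback.fst s.g' f) hdθ
    (compat_fst hδf s) (k - p) β hβ]
  congr 1

end Groth.Agent.BivarLib
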